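import Cfsg.Agent.Lib.ConwayFive.Top
import Cfsg.Agent.Lib.Classical.OrthOrderStd

/-!
An element of order five with fixed points `2^(1+4)_-` exists in `2^(1+8) . Ω^+(8,2)`.
-/

set_option autoImplicit false

namespace CfsgLib.ConwayFive

open CfsgLib.Extraspecial

/-- An isometry of order five of the form of minus type in dimension four. -/
def five4 : isoGrp e4 :=
  ⟨{ toFun := fun w => ![((w 0).2, (w 0).1 + (w 0).2 + (w 1).2), ((w 1).2, (w 0).2 + (w 1).1)]
     invFun := fun w => ![((w 0).2 + (w 0).1 + (w 1).1, (w 0).1), ((w 1).2 + (w 0).1, (w 1).1)]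
     map_add' := fun a b => by
       funext i; fin_cases i <;> refine Prod.ext ?_ ?_ <;> simp <;> ring
     map_smul' := fun c a => by
       funext i; fin_cases i <;> refine Prod.ext ?_ ?_ <;> simp <;> ring
     left_inv := by intro w; revert w; decide +kernel
     right_inv := by intro w; revert w; decide +kernel }, by
    show ∀ w : Coord 2, sqForm e4 ![((w 0).2, (w 0).1 + (w 0).2 + (w 1).2), ((w 1).2, (w 0).2 + (w 1).1)] =
      sqForm e4 w
    decide +kernel⟩

theorem five4_pow : five4 ^ 5 = 1 := by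
  refine Subtype.ext (LinearEquiv.ext fun w => ?_)
  show five4.1 (five4.1 (five4.1 (five4.1 (five4.1 w)))) = w
  revert w
  decide +kernel

theorem five4_fix : ∀ w, five4.1 w = w → w = 0 := by decide +kernel

theorem five4_sq_fix : ∀ w, five4.1 (five4.1 w) = w → w = 0 := by decide +kernel

theorem unit4_ne : (![(1, 0), (0, 0)] : Coord 2) ≠ 0 := by decide

theorem five4_ne : five4 ≠ 1 := fun h => by
  have := five4_fix ![(1, 0), (0, 0)] (by rw [h]; rfl)
  exact absurd this (by decide)

/-- Coordinates of minus type in dimension eight. -/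
abbrev m8 : Fin 4 → ZMod 2 := Pi.single (Fin.last 3) 1

/-- The standard coordinates of minus type. -/
def toFun8m : Coord 4 ≃ₗ[ZMod 2] ((Fin 3 ⊕ Fin 3) ⊕ Fin 2 → ZMod 2) where
  toFun v := Sum.elim (Sum.elim (fun i => (v i.castSucc).1) (fun i => (v i.castSucc).2))
    ![(v (Fin.last 3)).1, (v (Fin.last 3)).2]
  invFun u := ![(u (.inl (.inl 0)), u (.inl (.inr 0))), (u (.inl (.inl 1)), u (.inl (.inr 1))),
    (u (.inl (.inl 2)), u (.inl (.inr 2))), (u (.inr 0), u (.inr 1))]
  map_add' a b := by funext i; rcases i with (i | i) | i <;> fin_cases i <;> rfl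
  map_smul' c a := by funext i; rcases i with (i | i) | i <;> fin_cases i <;> rfl
  left_inv w := by funext i; fin_cases i <;> rfl
  right_inv u := by funext i; rcases i with (i | i) | i <;> fin_cases i <;> rfl

theorem toFun8m_form (v : Coord 4) :
    Cfsg.quadFormMinus 3 (ZMod 2) 1 1 (toFun8m v) = sqForm m8 v := by
  have hm : m8 = ![0, 0, 0, 1] := by decide
  rw [hm]
  simp [Cfsg.quadFormMinus, toFun8m, sqForm, cocycle, planeForm, Fin.sum_univ_three, Fin.sum_univ_four,
    Fin.castSucc, Fin.last, pow_two]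
  ring

theorem card_iso_m8 : Nat.card (isoGrp m8) = 394813440 := by
  obtain ⟨B, hB, hBn⟩ := CfsgLib.Orth.exists_quadForm_minus (F := ZMod 2) 3 SuzType.aniso
  have h := CfsgLib.Orth.card_orth_minus 4 (by norm_num) (a := 1) (b := 1) SuzType.aniso hB hBn
  rw [Nat.card_congr (isoGrpEquiv m8 ⇑B toFun8m (fun w => by rw [hB]; exact toFun8m_form w)).toEquiv]
  rw [Nat.card_zmod] at h
  exact h.trans (by decide)

theorem model_minus (A : Subgroup (Model e4)) (hA : Cfsg.IsElementaryAbelian 2 A) : Nat.card A ≤ 4 := by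
  haveI : Fact (Nat.Prime 2) := ⟨Nat.prime_two⟩
  obtain ⟨m, -, hm, hcases⟩ := invariants _ (Model e4) (Model.isExtraspecial (by norm_num)) rfl
  rw [Model.card] at hm
  have hm2 : m = 2 := by have := Nat.pow_right_injective le_rfl hm; omega
  subst hm2
  have h1 := Model.sqOne_eq (e := e4)
  rw [Fin.prod_univ_two] at h1
  norm_num at h1
  rcases hcases with ⟨h2, -⟩ | ⟨-, h2, -⟩
  · rw [h2] at h1; norm_num at h1
  · exact (h2 A hA).trans (by norm_num)

variable {G : Type*} [Group G] [Finite G]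

set_option maxHeartbeats 800000 in
theorem exists_hyp (z : G) (C : Subgroup G) (memC : ∀ g : G, g ∈ C ↔ g * z = z * g) (Q : Subgroup C) [Q.Normal]
    (st : Setting (Q.map C.subtype) z) (hQ : Cfsg.IsExtraspecial 2 Q) (hcard : Nat.card Q = 2 ^ 9)
    (e : C ⧸ Q ≃* Cfsg.Omega (ZMod 2) (Cfsg.quadFormPlus 4 (ZMod 2))) :
    ∃ B : Subgroup G, Hyp z (Q.map C.subtype) B := by
  classical
  haveI : Fact (Nat.Prime 2) := ⟨Nat.prime_two⟩
  haveI : Fact (Nat.Prime 5) := ⟨by norm_num⟩
  set R := Q.map C.subtype with hR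
  obtain ⟨d, hd⟩ := exists_iso8
  have hcent : ∀ c : C, (∀ x ∈ Q, c * x = x * c) → c ∈ Q := by
    intro c hc
    have h1 : (c : G) ∈ Subgroup.centralizer (R : Set G) := by
      rw [Subgroup.mem_centralizer_iff]
      rintro _ ⟨x, hx, rfl⟩
      exact congrArg Subtype.val (hc x hx).symm
    rw [st.cQ] at h1
    obtain ⟨y, hy, hyc⟩ := Subgroup.zpowers_le.mpr st.z_mem h1
    exact Subtype.ext hyc ▸ hy
  have five : orderOf five4 = 5 := orderOf_eq_prime five4_pow five4_ne
  have hd1 : ∀ j : isoGrp e4 →* isoGrp e8, d (j five4) = 1 := fun j => by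
    rcases Int.units_eq_one_or (d (j five4)) with h | h
    · exact h
    · have h5 : d (j five4) ^ 5 = 1 := by rw [← map_pow, ← map_pow, five4_pow, map_one, map_one]
      rw [h] at h5
      exact absurd h5 (by decide)
  have h25 : 25 ∣ Nat.card d.ker := by
    let K : Subgroup (isoGrp e4) := Subgroup.zpowers five4
    have hc : ∀ a b : isoGrp e4, Commute (j1 a) (j2 b) := fun a b => Subtype.ext (LinearEquiv.ext fun v => by
      show (j1 a).1 ((j2 b).1 v) = (j2 b).1 ((j1 a).1 v)
      simp [j1_apply, j2_apply, fs_glue, sn_glue])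
    let f : ↥K × ↥K →* isoGrp e8 :=
      MonoidHom.mk' (fun p => j1 p.1.1 * j2 p.2.1) (fun p q => by
        show j1 (p.1.1 * q.1.1) * j2 (p.2.1 * q.2.1) = _
        rw [map_mul, map_mul, mul_assoc, ← mul_assoc (j1 q.1.1), (hc _ _).eq]
        simp only [mul_assoc])
    have hf : Function.Injective f := by
      rw [injective_iff_map_eq_one]
      rintro ⟨a, b⟩ h
      have h' : j1 a.1 * j2 b.1 = 1 := h
      have ha : ∀ u, a.1.1 u = u := fun u => by
        have := congrArg (fun x : isoGrp e8 => fs (x.1 (glue u 0))) h'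
        simpa [j1_apply, j2_apply, fs_glue, sn_glue] using this
      have hb : ∀ u, b.1.1 u = u := fun u => by
        have := congrArg (fun x : isoGrp e8 => sn (x.1 (glue 0 u))) h'
        simpa [j1_apply, j2_apply, fs_glue, sn_glue] using this
      exact Prod.ext (Subtype.ext (Subtype.ext (LinearEquiv.ext ha)))
        (Subtype.ext (Subtype.ext (LinearEquiv.ext hb)))
    have hle : f.range ≤ d.ker := by
      rintro _ ⟨⟨⟨a, ha⟩, ⟨b, hb⟩⟩, rfl⟩
      obtain ⟨i, rfl⟩ := Subgroup.mem_zpowers_iff.mp ha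
      obtain ⟨k, rfl⟩ := Subgroup.mem_zpowers_iff.mp hb
      rw [MonoidHom.mem_ker]
      show d (j1 (five4 ^ i) * j2 (five4 ^ k)) = 1
      rw [map_mul, map_zpow, map_zpow, map_zpow, map_zpow, hd1, hd1, one_zpow, one_zpow, one_mul]
    have h := Subgroup.card_dvd_of_le hle
    rw [Nat.card_congr (MonoidHom.ofInjective hf).symm.toEquiv, Nat.card_prod, Nat.card_zpowers, five] at h
    exact h
  have hnA : ∃ A : Subgroup ↥Q, Cfsg.IsElementaryAbelian 2 A ∧ Nat.card ↥A = 2 ^ (4 + 1) := by
    by_contra h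
    obtain ⟨ψ⟩ := equiv_model m8 hQ (by norm_num) hcard false (iff_of_false Bool.false_ne_true h)
      (by rw [m8, prod_last]; simp)
    have h1 := Subgroup.card_subgroup_dvd_card (SuzType.actHom Q ψ).range
    rw [SuzType.actHom_card Q ψ hcent, Nat.card_congr e.toEquiv, ← hd.card, card_iso_m8] at h1
    have := h25.trans h1
    revert this; decide
  obtain ⟨ψ⟩ := equiv_model e8 hQ (by norm_num) hcard true (iff_of_true rfl hnA)
    (by simp [Fin.prod_univ_four])
  let π := SuzType.actHom Q ψ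
  have hker : π.ker = Q := SuzType.actHom_ker Q ψ hcent
  have hπcard : Nat.card π.range = Nat.card d.ker := by
    rw [SuzType.actHom_card Q ψ hcent, hd.card]
    exact Nat.card_congr e.toEquiv
  have hπi : π.range.index = 2 := by
    have h1 := π.range.card_mul_index
    rw [hπcard, ← d.ker.card_mul_index, hd.index] at h1
    exact Nat.eq_of_mul_eq_mul_left Nat.card_pos h1
  have hrange : π.range = d.ker := by
    have hle : d.ker ≤ π.range := hd.comm_le.trans (by
      rw [commutator_def, Subgroup.commutator_le]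
      intro a _ b _
      rw [commutatorElement_def, Subgroup.mul_mem_iff_of_index_two hπi, Subgroup.mul_mem_iff_of_index_two hπi,
        Subgroup.mul_mem_iff_of_index_two hπi, inv_mem_iff, inv_mem_iff]
      tauto)
    exact (Subgroup.eq_of_le_of_card_ge hle hπcard.le).symm
  obtain ⟨c, hc⟩ : j2 five4 ∈ π.range := hrange ▸ (MonoidHom.mem_ker.mpr (hd1 j2))
  set b := c ^ 512 with hb
  have hb5 : b ^ 5 = 1 := by
    have h1 : c ^ 5 ∈ Q := by
      rw [← hker, MonoidHom.mem_ker, map_pow, hc, ← map_pow, five4_pow, map_one]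
    have h2 := pow_card_eq_one' (x := (⟨c ^ 5, h1⟩ : Q))
    rw [hcard] at h2
    have h3 := congrArg Subtype.val h2
    rw [SubgroupClass.coe_pow, OneMemClass.coe_one] at h3
    rw [hb, ← pow_mul, mul_comm, pow_mul]
    exact h3
  have hπb : π b = j2 (five4 * five4) := by
    rw [hb, map_pow, hc, ← map_pow, show (512 : ℕ) = 5 * 102 + 2 by norm_num, pow_add, pow_mul, five4_pow,
      one_pow, one_mul, pow_two]
  have hb1 : b ≠ 1 := fun h => by
    rw [h, map_one] at hπb
    have h2 := j2_injective (hπb.symm.trans (map_one j2).symm)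
    have := five4_sq_fix (![(1, 0), (0, 0)] : Coord 2)
      (DFunLike.congr_fun (congrArg Subtype.val h2) (![(1, 0), (0, 0)] : Coord 2))
    exact unit4_ne this
  have hbord : orderOf (b : G) = 5 := by
    rw [Subgroup.orderOf_coe]; exact orderOf_eq_prime hb5 hb1
  let zQ : ↥Q := ⟨⟨z, (memC z).mpr rfl⟩, by
    obtain ⟨y, hy, hyz⟩ := st.z_mem
    exact (Subtype.ext hyz : y = ⟨z, (memC z).mpr rfl⟩) ▸ hy⟩
  -- the fixed points
  have hfix : ∀ q : Q, (b : C) * q = q * b ↔ sn (ψ q).v = 0 := by
    intro q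
    have happ := SuzType.actHom_apply Q ψ b q
    change (π b).1 (ψ q).v = _ at happ
    rw [hπb, j2_apply] at happ
    constructor
    · intro h
      rw [show (⟨b * q * b⁻¹, Subgroup.Normal.conj_mem inferInstance _ q.2 b⟩ : Q) = q from
        Subtype.ext (mul_inv_eq_iff_eq_mul.mpr h)] at happ
      have h2 := congrArg sn happ
      rw [sn_glue] at h2
      exact five4_sq_fix _ h2
    · intro h
      rw [h, map_zero, ← h, glue_fs_sn] at happ
      set q' : Q := ⟨b * q * b⁻¹, Subgroup.Normal.conj_mem inferInstance _ q.2 b⟩ with hq'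
      have hz1 : ψ (q⁻¹ * q') ∈ Subgroup.center (Model e8) := by
        rw [Model.mem_center_iff, map_mul, map_inv, Model.mul_v, ← happ]
        exact congrArg Model.v (inv_mul_cancel (ψ q))
      have hcomm : ∀ r : Q, r * (q⁻¹ * q') = q⁻¹ * q' * r := fun r => ψ.injective (by
        rw [map_mul, map_mul ψ (q⁻¹ * q') r]; exact Subgroup.mem_center_iff.mp hz1 _)
      rcases st.eq_of_forall (x := (((q⁻¹ * q' : Q) : C) : G)) ⟨_, (q⁻¹ * q' : Q).2, rfl⟩ (by
        rintro _ ⟨r, hr, rfl⟩
        exact congrArg (fun w : Q => ((w : C) : G)) (hcomm ⟨r, hr⟩)) with e1 | e1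
      · have : q⁻¹ * q' = 1 := Subtype.ext (Subtype.ext e1)
        exact mul_inv_eq_iff_eq_mul.mp (congrArg Subtype.val (inv_mul_eq_one.mp this)).symm
      · exfalso
        have e2 : (b : G) * ((q : C) : G) * (b : G)⁻¹ = ((q : C) : G) * z := by
          rw [← e1, ← Subgroup.coe_inv]; push_cast; simp [hq']
        have e3 : ∀ n : ℕ, (b : G) ^ n * ((q : C) : G) * ((b : G) ^ n)⁻¹ = ((q : C) : G) * z ^ n := by
          intro n
          induction n with
          | zero => simp
          | succ n ih =>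
            rw [pow_succ', show (b : G) * (b : G) ^ n * ((q : C) : G) * ((b : G) * (b : G) ^ n)⁻¹ =
              (b : G) * ((b : G) ^ n * ((q : C) : G) * ((b : G) ^ n)⁻¹) * (b : G)⁻¹ by group, ih,
              show (b : G) * (((q : C) : G) * z ^ n) * (b : G)⁻¹ =
                ((b : G) * ((q : C) : G) * (b : G)⁻¹) * ((b : G) * z ^ n * (b : G)⁻¹) by group, e2,
              ((show Commute (b : G) z from (memC _).mp b.2).pow_right n).eq, mul_inv_cancel_right, pow_succ',
              mul_assoc]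
        have e4 := e3 5
        rw [← SubgroupClass.coe_pow, hb5, OneMemClass.coe_one, one_mul, inv_one, mul_one] at e4
        exact st.ne_one (by
          have h5 : z ^ 5 = z := by rw [show z ^ 5 = (z * z) * (z * z) * z by simp only [pow_succ, pow_zero, one_mul, mul_assoc], st.zz]; simp
          rw [h5] at e4; exact mul_eq_left.mp e4.symm)
  let φ : Model e4 →* Q := ψ.symm.toMonoidHom.comp (MonoidHom.mk' (fun m => (⟨glue m.v 0, m.a⟩ : Model e8))
    (fun m n => by
      refine Model.ext ?_ ?_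
      · show glue (m.v + n.v) 0 = glue m.v 0 + glue n.v 0
        rw [← glue_add, add_zero]
      · show m.a + n.a + cocycle e4 m.v n.v = m.a + n.a + cocycle e8 (glue m.v 0) (glue n.v 0)
        rw [cocycle_split, fs_glue, fs_glue, sn_glue, sn_glue, cocycle_zero_left, add_zero]))
  let Φ : Model e4 →* G := C.subtype.comp (Q.subtype.comp φ)
  have hφv : ∀ m, ψ (φ m) = ⟨glue m.v 0, m.a⟩ := fun m => ψ.apply_symm_apply _
  have hΦinj : Function.Injective Φ := fun m n h => by
    have h1 : φ m = φ n := Subtype.ext (Subtype.ext h)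
    have h2 := congrArg ψ h1
    rw [hφv, hφv] at h2
    refine Model.ext ?_ (congrArg Model.a h2 :)
    have := congrArg fs (congrArg Model.v h2)
    rwa [fs_glue, fs_glue] at this
  set B := Subgroup.zpowers (b : G) with hB
  have hQ1 : Φ.range = Q1 R B := by
    ext x
    rw [mem_Q1]
    constructor
    · rintro ⟨m, rfl⟩
      refine ⟨⟨_, (φ m).2, rfl⟩, fun b' hb' => ?_⟩
      obtain ⟨k, rfl⟩ := Subgroup.mem_zpowers_iff.mp hb'
      refine Commute.zpow_left ?_ k
      have h := (hfix (φ m)).mpr (by rw [hφv]; exact sn_glue _ _)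
      exact congrArg Subtype.val h
    · rintro ⟨⟨y, hy, rfl⟩, hb'⟩
      have h := (hfix ⟨y, hy⟩).mp (Subtype.ext (hb' _ (Subgroup.mem_zpowers _)))
      refine ⟨⟨fs (ψ ⟨y, hy⟩).v, (ψ ⟨y, hy⟩).a⟩, ?_⟩
      show ((φ _ : C) : G) = (y : G)
      rw [show φ ⟨fs (ψ ⟨y, hy⟩).v, (ψ ⟨y, hy⟩).a⟩ = ⟨y, hy⟩ from ψ.injective (by
        rw [hφv]
        exact Model.ext ((congrArg (glue _) h.symm).trans (glue_fs_sn _)) rfl)]
  let E : Model e4 ≃* ↥(Q1 R B) := (MonoidHom.ofInjective hΦinj).trans (MulEquiv.subgroupCongr hQ1)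
  refine ⟨B, ⟨st, ?_, ?_, ?_, isExtraspecial_congr E (Model.isExtraspecial (by norm_num)), ?_, ?_⟩⟩
  · rw [Subgroup.card_map_of_injective C.subtype_injective, hcard]; norm_num
  · rw [hB, Nat.card_zpowers, hbord]
  · rw [hB, Subgroup.zpowers_le]; exact Subgroup.mem_centralizer_singleton_iff.mpr ((memC _).mp b.2)
  · rw [← Nat.card_congr E.toEquiv, Model.card]; norm_num
  · intro A hA hAe
    have h1 : A ≤ Φ.range := hA.trans hQ1.ge
    rw [← Subgroup.map_comap_eq_self h1, Subgroup.card_map_of_injective hΦinj]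
    refine model_minus _ ⟨⟨⟨fun a b => Subtype.ext (hΦinj ?_)⟩⟩, fun a ha => hΦinj ?_⟩
    · show Φ (a.1 * b.1) = Φ (b.1 * a.1)
      rw [map_mul, map_mul]
      exact congrArg Subtype.val (hAe.1.1.comm ⟨_, a.2⟩ ⟨_, b.2⟩)
    · rw [map_pow, map_one]; exact hAe.2 _ ha

end CfsgLib.ConwayFive
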