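import Cfsg.Agent.Lib.Extraspecial.FStarSetting
import Cfsg.Agent.Lib.Extraspecial.OuterAut
import Cfsg.Agent.Lib.Extraspecial.Pair
import Mathlib.GroupTheory.PGroup

/-!
A group of order five acting on an extraspecial group `2^(1+8)` with fixed points `2^(1+4)_-`.
-/

set_option autoImplicit false

namespace CfsgLib.ConwayFive

open CfsgLib.Extraspecial

variable {G : Type*} [Group G] [Finite G]

/-- The fixed points of `B` on `Q`. -/
def Q1 (Q B : Subgroup G) : Subgroup G := Q ⊓ Subgroup.centralizer (B : Set G)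

/-- The orthogonal complement of the fixed points. -/
def Q2 (Q B : Subgroup G) : Subgroup G := Q ⊓ Subgroup.centralizer (Q1 Q B : Set G)

/-- The centraliser of `Q2` in `C(z)`. -/
def L1 (z : G) (Q B : Subgroup G) : Subgroup G :=
  Subgroup.centralizer ({z} : Set G) ⊓ Subgroup.centralizer (Q2 Q B : Set G)

/-- The centraliser of `Q1` in `C(z)`. -/
def L2 (z : G) (Q B : Subgroup G) : Subgroup G :=
  Subgroup.centralizer ({z} : Set G) ⊓ Subgroup.centralizer (Q1 Q B : Set G)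

/-- The hypotheses on `z`, `Q` and `B`. -/
structure Hyp (z : G) (Q B : Subgroup G) : Prop where
  st : Setting Q z
  card : Nat.card Q = 512
  cardB : Nat.card B = 5
  Bz : B ≤ Subgroup.centralizer ({z} : Set G)
  ex1 : Cfsg.IsExtraspecial 2 ↥(Q1 Q B)
  card1 : Nat.card ↥(Q1 Q B) = 32
  minus : ∀ A : Subgroup G, A ≤ Q1 Q B → Cfsg.IsElementaryAbelian 2 A → Nat.card A ≤ 4

theorem mem_Q1 {Q B : Subgroup G} {x : G} : x ∈ Q1 Q B ↔ x ∈ Q ∧ ∀ b ∈ B, b * x = x * b := by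
  rw [Q1, Subgroup.mem_inf, Subgroup.mem_centralizer_iff]
  rfl

theorem mem_Q2 {Q B : Subgroup G} {x : G} : x ∈ Q2 Q B ↔ x ∈ Q ∧ ∀ q ∈ Q1 Q B, q * x = x * q := by
  rw [Q2, Subgroup.mem_inf, Subgroup.mem_centralizer_iff]
  rfl

theorem mem_L1 {z : G} {Q B : Subgroup G} {c : G} :
    c ∈ L1 z Q B ↔ c * z = z * c ∧ ∀ q ∈ Q2 Q B, q * c = c * q := by
  rw [L1, Subgroup.mem_inf, Subgroup.mem_centralizer_singleton_iff, Subgroup.mem_centralizer_iff]
  rfl

theorem mem_L2 {z : G} {Q B : Subgroup G} {c : G} :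
    c ∈ L2 z Q B ↔ c * z = z * c ∧ ∀ q ∈ Q1 Q B, q * c = c * q := by
  rw [L2, Subgroup.mem_inf, Subgroup.mem_centralizer_singleton_iff, Subgroup.mem_centralizer_iff]
  rfl

theorem conj_commute {a x c : G} (h1 : a * c = c * a) (h2 : x * c = c * x) :
    a * x * a⁻¹ * c = c * (a * x * a⁻¹) :=
  ((show Commute a c from h1).mul_left h2).mul_left (show Commute a c from h1).inv_left

theorem conj_eq_self {a x : G} (h : a * x = x * a) : a * x * a⁻¹ = x := by
  rw [h, mul_inv_cancel_right]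

/-- A set invariant under a group of order five is congruent to its set of fixed points. -/
theorem mod_five {B : Subgroup G} (hB : Nat.card B = 5) (S : Set G)
    (hS : ∀ b ∈ B, ∀ x ∈ S, b * x * b⁻¹ ∈ S) :
    Nat.card S ≡ Nat.card {x : G // x ∈ S ∧ ∀ b ∈ B, b * x = x * b} [MOD 5] := by
  haveI : Fact (Nat.Prime 5) := ⟨by norm_num⟩
  letI act : MulAction B S :=
    { smul := fun b x => ⟨b * x * (b : G)⁻¹, hS b b.2 x x.2⟩
      one_smul := fun x => Subtype.ext (by show (1 : G) * x * (1 : G)⁻¹ = x; group)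
      mul_smul := fun a b x => Subtype.ext (by
        show ((a : G) * b) * x * ((a : G) * b)⁻¹ = (a : G) * ((b : G) * x * (b : G)⁻¹) * (a : G)⁻¹
        group) }
  have h := (IsPGroup.of_card (p := 5) (n := 1) (G := B) (by rw [hB, pow_one])).card_modEq_card_fixedPoints S
  refine h.trans ?_
  refine congrArg (· % 5) (Nat.card_congr
    { toFun := fun x => ⟨x.1.1, x.1.2, fun b hb => mul_inv_eq_iff_eq_mul.mp (congrArg Subtype.val (x.2 ⟨b, hb⟩))⟩
      invFun := fun x => ⟨⟨x.1, x.2.1⟩, fun b => Subtype.ext (mul_inv_eq_iff_eq_mul.mpr (x.2.2 b b.2))⟩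
      left_inv := fun x => rfl
      right_inv := fun x => rfl })

/-- The fixed point. -/
theorem exists_fixed {B : Subgroup G} (hB : Nat.card B = 5) (S : Set G)
    (hS : ∀ b ∈ B, ∀ x ∈ S, b * x * b⁻¹ ∈ S) (h5 : ¬ 5 ∣ Nat.card S) :
    ∃ x ∈ S, ∀ b ∈ B, b * x = x * b := by
  have h := mod_five hB S hS
  by_contra hne
  push Not at hne
  haveI hE : IsEmpty {x : G // x ∈ S ∧ ∀ b ∈ B, b * x = x * b} :=
    ⟨fun x => let ⟨b, hb, hne'⟩ := hne x.1 x.2.1; hne' (x.2.2 b hb)⟩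
  rw [@Nat.card_of_isEmpty _ hE] at h
  exact h5 (Nat.modEq_zero_iff_dvd.mp h)

/-- Minus-type coordinates in dimension four. -/
abbrev e4 : Fin 2 → ZMod 2 := ![0, 1]

namespace Hyp

variable {z : G} {Q B : Subgroup G} (H : Hyp z Q B)
include H

theorem le1 : Q1 Q B ≤ Q := inf_le_left

theorem le2 : Q2 Q B ≤ Q := inf_le_left

theorem conj_memQ {c x : G} (hc : c * z = z * c) (hx : x ∈ Q) : c * x * c⁻¹ ∈ Q :=
  (Subgroup.mem_normalizer_iff.mp (H.st.cz (Subgroup.mem_centralizer_singleton_iff.mpr hc)) x).mp hx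

theorem b_z {b : G} (hb : b ∈ B) : b * z = z * b := Subgroup.mem_centralizer_singleton_iff.mp (H.Bz hb)

theorem q_z {q : G} (hq : q ∈ Q) : q * z = z * q := H.st.z_comm hq

theorem z_mem1 : z ∈ Q1 Q B := mem_Q1.mpr ⟨H.st.z_mem, fun _ hb => H.b_z hb⟩

theorem z_mem2 : z ∈ Q2 Q B := mem_Q2.mpr ⟨H.st.z_mem, fun _ hq => H.q_z (H.le1 hq)⟩

theorem comm12 {a c : G} (ha : a ∈ Q1 Q B) (hc : c ∈ Q2 Q B) : a * c = c * a := (mem_Q2.mp hc).2 a ha

theorem z_central1 {x : G} (hx : x ∈ Q1 Q B) (h : ∀ q ∈ Q1 Q B, q * x = x * q) : x = 1 ∨ x = z := by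
  haveI : Fact (Nat.Prime 2) := ⟨Nat.prime_two⟩
  have hz : (⟨z, H.z_mem1⟩ : Q1 Q B) ∈ Subgroup.center (Q1 Q B) :=
    Subgroup.mem_center_iff.mpr fun q => Subtype.ext (H.q_z (H.le1 q.2))
  have hx' : (⟨x, hx⟩ : Q1 Q B) ∈ Subgroup.center (Q1 Q B) :=
    Subgroup.mem_center_iff.mpr fun q => Subtype.ext (h q q.2)
  by_cases h1 : x = 1
  · exact Or.inl h1
  refine Or.inr ?_
  obtain ⟨w, -, huniq⟩ := (Nat.card_eq_two_iff' (1 : Subgroup.center (Q1 Q B))).1 H.ex1.2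
  have a := huniq ⟨_, hx'⟩ fun e => h1 (congrArg (fun t : Subgroup.center (Q1 Q B) => ((t : Q1 Q B) : G)) e)
  have b := huniq ⟨_, hz⟩ fun e =>
    H.st.ne_one (congrArg (fun t : Subgroup.center (Q1 Q B) => ((t : Q1 Q B) : G)) e)
  exact congrArg (fun t : Subgroup.center (Q1 Q B) => ((t : Q1 Q B) : G)) (a.trans b.symm)

theorem move1 {x : G} (hx : x ∈ Q1 Q B) (h1 : x ≠ 1) (hz : x ≠ z) :
    ∃ u ∈ Q1 Q B, u * x * u⁻¹ = z * x := by
  by_contra h
  push Not at h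
  rcases H.z_central1 hx (fun q hq => mul_inv_eq_iff_eq_mul.mp
    ((H.st.comm_cases (H.le1 hq) (H.le1 hx)).resolve_right (h q hq))) with e | e
  · exact h1 e
  · exact hz e

theorem exists_coord1 : Nonempty (↥(Q1 Q B) ≃* Model e4) := by
  haveI : Fact (Nat.Prime 2) := ⟨Nat.prime_two⟩
  refine equiv_model e4 H.ex1 (by norm_num) (by rw [H.card1]; norm_num) false
    (iff_of_false Bool.false_ne_true ?_) (by simp [Fin.prod_univ_two])
  rintro ⟨A, hA, hAc⟩
  have h := H.minus (A.map (Q1 Q B).subtype) (Subgroup.map_subtype_le _) ⟨?_, ?_⟩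
  · rw [Subgroup.card_map_of_injective (Q1 Q B).subtype_injective, hAc] at h
    norm_num at h
  · exact ⟨⟨by
      rintro ⟨_, a, ha, rfl⟩ ⟨_, b, hb, rfl⟩
      exact Subtype.ext (congrArg (Q1 Q B).subtype
        (congrArg Subtype.val (hA.1.is_comm.comm ⟨a, ha⟩ ⟨b, hb⟩) : a * b = b * a))⟩⟩
  · rintro _ ⟨a, ha, rfl⟩
    rw [← map_pow, hA.2 a ha, map_one]

/-- `Q = Q1 Q2`. -/
theorem decomp {q : G} (hq : q ∈ Q) : ∃ a ∈ Q1 Q B, ∃ c ∈ Q2 Q B, q = a * c := by
  classical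
  obtain ⟨ψ⟩ := H.exists_coord1
  let f : Model e4 → ZMod 2 := fun m => if q * (ψ.symm m : G) = (ψ.symm m : G) * q then 0 else 1
  have hf : ∀ m, f m = 0 ↔ q * (ψ.symm m : G) = (ψ.symm m : G) * q := fun m => by
    dsimp only [f]; split <;> simp [*]
  have hf1 : ∀ m, f m = 1 → q * (ψ.symm m : G) = z * ((ψ.symm m : G) * q) := by
    intro m hm
    rcases H.st.comm_cases hq (H.le1 (ψ.symm m).2) with h | h
    · rw [(hf m).mpr (mul_inv_eq_iff_eq_mul.mp h)] at hm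
      exact absurd hm (by decide)
    · rw [← mul_assoc, ← h]; group
  have hadd : ∀ m n, f (m * n) = f m + f n := by
    intro m n
    set x := (ψ.symm m : G)
    set y := (ψ.symm n : G)
    have hxy : (ψ.symm (m * n) : G) = x * y := by rw [map_mul]; rfl
    have hzx : z * x = x * z := (H.q_z (H.le1 (ψ.symm m).2)).symm
    rcases zmod_two_cases (f m) with hm | hm <;> rcases zmod_two_cases (f n) with hn | hn <;> rw [hm, hn]
    · rw [add_zero, hf, hxy, ← mul_assoc, (hf m).mp hm, mul_assoc, (hf n).mp hn, mul_assoc]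
    · rw [zero_add]
      refine (zmod_two_cases _).resolve_left fun h0 => H.st.ne_one ?_
      rw [hf, hxy] at h0
      have e : q * (x * y) = z * (x * y * q) := by
        rw [← mul_assoc, (hf m).mp hm, mul_assoc, hf1 n hn, ← mul_assoc x z, ← hzx]
        simp only [mul_assoc]; rfl
      exact mul_eq_right.mp (e.symm.trans h0)
    · rw [add_zero]
      refine (zmod_two_cases _).resolve_left fun h0 => H.st.ne_one ?_
      rw [hf, hxy, ← mul_assoc, hf1 m hm, mul_assoc, mul_assoc, (hf n).mp hn, ← mul_assoc x] at h0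
      exact mul_eq_right.mp h0
    · rw [show (1 : ZMod 2) + 1 = 0 by decide, hf, hxy, ← mul_assoc, hf1 m hm, mul_assoc, mul_assoc x,
        hf1 n hn, ← mul_assoc x z, ← hzx, mul_assoc z x, ← mul_assoc z z, H.st.zz, one_mul, mul_assoc]
  have hzero : ∀ t : ZMod 2, f ⟨0, t⟩ = 0 := by
    intro t
    rw [hf]
    have hc : (⟨0, t⟩ : Model e4) ∈ Subgroup.center (Model e4) := (Model.mem_center_iff _).mpr rfl
    rcases H.z_central1 (ψ.symm ⟨0, t⟩).2 (fun r hr => by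
      have := congrArg (fun w => ((ψ.symm w : Q1 Q B) : G)) (Subgroup.mem_center_iff.mp hc (ψ ⟨r, hr⟩))
      simpa using this) with h | h <;> rw [h]
    · simp
    · exact H.q_z hq
  let g : Coord 2 →+ ZMod 2 := AddMonoidHom.mk' (fun v => f ⟨v, 0⟩) (fun v w => by
    have h1 : (⟨v, 0⟩ : Model e4) * ⟨w, 0⟩ = ⟨v + w, 0⟩ * ⟨0, cocycle e4 v w⟩ := by
      ext1 <;> simp [Model.mul_v, Model.mul_a, cocycle_zero_right]
    have h2 := congrArg f h1
    rw [hadd, hadd, hzero, add_zero] at h2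
    exact h2.symm)
  obtain ⟨w, hw⟩ : ∃ w : Coord 2, ∀ v, cocycle e4 w v + cocycle e4 v w = g v := by
    have key : ∀ c : Fin 4 → ZMod 2, ∃ w : Coord 2,
        ∀ i, cocycle e4 w (![![(1, 0), (0, 0)], ![(0, 1), (0, 0)], ![(0, 0), (1, 0)], ![(0, 0), (0, 1)]] i) +
          cocycle e4 (![![(1, 0), (0, 0)], ![(0, 1), (0, 0)], ![(0, 0), (1, 0)], ![(0, 0), (0, 1)]] i) w = c i := by
      decide +kernel
    obtain ⟨w, hw⟩ := key fun i => g (![![(1, 0), (0, 0)], ![(0, 1), (0, 0)], ![(0, 0), (1, 0)], ![(0, 0), (0, 1)]] i)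
    refine ⟨w, fun v => ?_⟩
    have hv : v = (v 0).1 • (![(1, 0), (0, 0)] : Coord 2) + (v 0).2 • ![(0, 1), (0, 0)] +
        (v 1).1 • ![(0, 0), (1, 0)] + (v 1).2 • ![(0, 0), (0, 1)] := by
      funext i; fin_cases i <;> simp [Prod.ext_iff]
    let h : Coord 2 →+ ZMod 2 := AddMonoidHom.mk' (fun v => cocycle e4 w v + cocycle e4 v w) (fun a b => by
      rw [cocycle_add_left, cocycle_add_right]; ring)
    show h.toZModLinearMap 2 v = g.toZModLinearMap 2 v
    rw [hv]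
    simp only [map_add, map_smul]
    have h0 : h.toZModLinearMap 2 ![(1, 0), (0, 0)] = g.toZModLinearMap 2 ![(1, 0), (0, 0)] := hw 0
    have h1 : h.toZModLinearMap 2 ![(0, 1), (0, 0)] = g.toZModLinearMap 2 ![(0, 1), (0, 0)] := hw 1
    have h2 : h.toZModLinearMap 2 ![(0, 0), (1, 0)] = g.toZModLinearMap 2 ![(0, 0), (1, 0)] := hw 2
    have h3 : h.toZModLinearMap 2 ![(0, 0), (0, 1)] = g.toZModLinearMap 2 ![(0, 0), (0, 1)] := hw 3
    rw [h0, h1, h2, h3]
  set a := (ψ.symm ⟨w, 0⟩ : G) with ha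
  have haQ : a ∈ Q1 Q B := (ψ.symm ⟨w, 0⟩).2
  refine ⟨a, haQ, a⁻¹ * q, mem_Q2.mpr ⟨mul_mem (inv_mem (H.le1 haQ)) hq, fun x hx => ?_⟩, by group⟩
  set m := ψ ⟨x, hx⟩ with hm
  have hxm : (ψ.symm m : G) = x := by rw [hm, ψ.symm_apply_apply]
  have hfm : f m = g m.v := by
    have h := hadd ⟨m.v, 0⟩ ⟨0, m.a⟩
    rw [← Model.eq_mul, hzero, add_zero] at h
    exact h
  have hcomm : a * x = x * a ↔ cocycle e4 w m.v = cocycle e4 m.v w := by
    rw [← hxm, ha, ← Model.comm_iff (⟨w, 0⟩ : Model e4) m]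
    refine ⟨fun h => ψ.symm.injective (Subtype.ext ?_), fun h => ?_⟩
    · rw [map_mul, map_mul]; exact h
    · have := congrArg (fun t => ((ψ.symm t : Q1 Q B) : G)) h
      simpa [map_mul] using this
  have hsum : cocycle e4 w m.v + cocycle e4 m.v w = f m := (hw m.v).trans hfm.symm
  rcases zmod_two_cases (f m) with h0 | h0
  · have h1 : a * x = x * a := hcomm.mpr (CharTwo.add_eq_zero.mp (h0 ▸ hsum))
    have h2 : q * x = x * q := by rw [← hxm]; exact (hf m).mp h0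
    exact (((show Commute a x from h1).inv_left).mul_left h2).symm
  · have h1 : a * x = z * (x * a) := by
      rw [mul_inv_eq_iff_eq_mul.mp ((H.st.comm_cases (H.le1 haQ) (H.le1 hx)).resolve_left fun h => ?_),
        mul_assoc]
      rw [hcomm.mp (mul_inv_eq_iff_eq_mul.mp h), CharTwo.add_self_eq_zero, h0] at hsum
      exact absurd hsum (by decide)
    have h2 : q * x = z * (x * q) := by rw [← hxm]; exact hf1 m h0
    calc x * (a⁻¹ * q) = a⁻¹ * (a * x) * a⁻¹ * q := by group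
      _ = a⁻¹ * (z * (x * q)) := by rw [h1]; group
      _ = _ := by rw [← h2, mul_assoc]

theorem card2 : Nat.card ↥(Q2 Q B) = 32 := by
  classical
  have hd := fun q : Q => H.decomp q.2
  choose fa hfa fc hfc hq using hd
  let W := Subgroup.zpowers z
  have hW1 : ∀ w : W, (w : G) ∈ Q1 Q B := fun w => Subgroup.zpowers_le.mpr H.z_mem1 w.2
  have hW2 : ∀ w : W, (w : G) ∈ Q2 Q B := fun w => Subgroup.zpowers_le.mpr H.z_mem2 w.2
  let F : ↥(Q1 Q B) × ↥(Q2 Q B) → ↥Q × W := fun p =>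
    (⟨p.1 * p.2, mul_mem (H.le1 p.1.2) (H.le2 p.2.2)⟩,
      ⟨(fa ⟨p.1 * p.2, mul_mem (H.le1 p.1.2) (H.le2 p.2.2)⟩)⁻¹ * (p.1 : G), by
        set q : Q := ⟨p.1 * p.2, mul_mem (H.le1 p.1.2) (H.le2 p.2.2)⟩ with hqdef
        have e : (fa q)⁻¹ * (p.1 : G) = fc q * (p.2 : G)⁻¹ := by
          rw [inv_mul_eq_iff_eq_mul, ← mul_assoc, ← hq q, hqdef]
          show (p.1 : G) = (p.1 : G) * p.2 * (p.2 : G)⁻¹
          group
        rcases H.z_central1 (mul_mem (inv_mem (hfa q)) p.1.2) (fun r hr => by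
            rw [e]
            exact (mem_Q2.mp (mul_mem (hfc q) (inv_mem p.2.2))).2 r hr) with h | h <;> rw [h]
        · exact one_mem _
        · exact Subgroup.mem_zpowers z⟩)
  have hF : Function.Bijective F := by
    refine ⟨fun p r h => ?_, fun ⟨q, w⟩ => ?_⟩
    · obtain ⟨h1, h2⟩ := Prod.ext_iff.mp h
      have h1' : (p.1 : G) * p.2 = r.1 * r.2 := congrArg Subtype.val h1
      have h2' := congrArg Subtype.val h2
      simp only [F, h1'] at h2'
      have e1 : (p.1 : G) = r.1 := mul_left_cancel h2'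
      rw [e1] at h1'
      exact Prod.ext (Subtype.ext e1) (Subtype.ext (mul_left_cancel h1'))
    · refine ⟨(⟨fa q * w, mul_mem (hfa q) (hW1 w)⟩, ⟨(w : G)⁻¹ * fc q, mul_mem (inv_mem (hW2 w)) (hfc q)⟩), ?_⟩
      have e : fa q * (w : G) * ((w : G)⁻¹ * fc q) = q := by rw [hq q]; group
      refine Prod.ext (Subtype.ext e) (Subtype.ext ?_)
      simp only [F]
      simp only [e, Subtype.coe_eta]
      group
  have h := Nat.card_congr (Equiv.ofBijective F hF)
  rw [Nat.card_prod, Nat.card_prod, H.card, H.card1, Nat.card_zpowers, H.st.ordz] at h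
  omega

theorem q2_central {x : G} (hx : x ∈ Q2 Q B) (h : ∀ q ∈ Q2 Q B, q * x = x * q) : x = 1 ∨ x = z := by
  refine H.st.eq_of_forall (H.le2 hx) fun q hq => ?_
  obtain ⟨a, ha, c, hc, rfl⟩ := H.decomp hq
  exact (show Commute a x from H.comm12 ha hx).mul_left (h c hc)

theorem nonabelian2 : ∃ a ∈ Q2 Q B, ∃ c ∈ Q2 Q B, a * c * a⁻¹ = z * c := by
  by_contra hne
  push Not at hne
  have hall : ∀ x ∈ Q2 Q B, x = 1 ∨ x = z := fun x hx => H.q2_central hx fun q hq =>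
    mul_inv_eq_iff_eq_mul.mp ((H.st.comm_cases (H.le2 hq) (H.le2 hx)).resolve_right (hne q hq x hx))
  have h1 : Nat.card ↥(Q2 Q B) ≤ Nat.card ↥(Subgroup.zpowers z) :=
    Subgroup.card_le_of_le fun x hx => by
      rcases hall x hx with e | e <;> rw [e]
      · exact one_mem _
      · exact Subgroup.mem_zpowers z
  rw [H.card2, Nat.card_zpowers, H.st.ordz] at h1
  omega

theorem fix2 {x : G} (hx : x ∈ Q2 Q B) (h : ∀ b ∈ B, b * x = x * b) : x = 1 ∨ x = z :=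
  H.z_central1 (mem_Q1.mpr ⟨H.le2 hx, h⟩) fun _ hq => H.comm12 hq hx

theorem conj1 {c x : G} (hc : c * z = z * c) (hcB : ∀ b ∈ B, b * c = c * b) (hx : x ∈ Q1 Q B) :
    c * x * c⁻¹ ∈ Q1 Q B :=
  mem_Q1.mpr ⟨H.conj_memQ hc (H.le1 hx),
    fun b hb => (conj_commute (hcB b hb).symm ((mem_Q1.mp hx).2 b hb).symm).symm⟩

theorem b_conj1 {b x : G} (hb : b ∈ B) (hx : x ∈ Q1 Q B) : b * x * b⁻¹ = x :=
  conj_eq_self ((mem_Q1.mp hx).2 b hb)

theorem b_conj2 {b x : G} (hb : b ∈ B) (hx : x ∈ Q2 Q B) : b * x * b⁻¹ ∈ Q2 Q B :=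
  mem_Q2.mpr ⟨H.conj_memQ (H.b_z hb) (H.le2 hx), fun q hq =>
    (conj_commute ((mem_Q1.mp hq).2 b hb) (H.comm12 hq hx).symm).symm⟩

theorem fixed_card_two (S : Set G) (hS : S ⊆ Q2 Q B) (h1 : (1 : G) ∈ S) (hz : z ∈ S) :
    Nat.card {x : G // x ∈ S ∧ ∀ b ∈ B, b * x = x * b} = 2 := by
  refine (Nat.card_eq_two_iff' (⟨1, h1, fun b _ => by rw [mul_one, one_mul]⟩ :
    {x : G // x ∈ S ∧ ∀ b ∈ B, b * x = x * b})).mpr
    ⟨⟨z, hz, fun b hb => H.b_z hb⟩, fun e => H.st.ne_one (congrArg Subtype.val e), ?_⟩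
  rintro ⟨x, hx, hxB⟩ hne
  exact Subtype.ext ((H.fix2 (hS hx) hxB).resolve_left fun e => hne (Subtype.ext e))

omit H in
theorem dvd_thirtytwo {n : ℕ} (h : n ∣ 32) : n = 1 ∨ n = 2 ∨ n = 4 ∨ n = 8 ∨ n = 16 ∨ n = 32 := by
  have h1 : n ∈ Nat.divisors 32 := Nat.mem_divisors.mpr ⟨h, by norm_num⟩
  have h2 : Nat.divisors 32 = {1, 2, 4, 8, 16, 32} := by decide +kernel
  rw [h2] at h1
  simpa using h1

/-- An invariant subgroup of `Q2` avoiding `z` is trivial. -/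
theorem inv_bot (W : Subgroup G) (hW : W ≤ Q2 Q B) (hinv : ∀ b ∈ B, ∀ x ∈ W, b * x * b⁻¹ ∈ W)
    (hz : z ∉ W) : W = ⊥ := by
  have h := mod_five H.cardB (W : Set G) hinv
  have hu : Nat.card {x : G // x ∈ (W : Set G) ∧ ∀ b ∈ B, b * x = x * b} = 1 := by
    rw [Nat.card_eq_one_iff_exists]
    refine ⟨⟨1, one_mem W, fun b _ => by rw [mul_one, one_mul]⟩, fun x => Subtype.ext ?_⟩
    exact (H.fix2 (hW x.2.1) x.2.2).resolve_right fun e => hz (e ▸ x.2.1)
  rw [hu, SetLike.coe_sort_coe] at h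
  have hd := Subgroup.card_dvd_of_le hW
  rw [H.card2] at hd
  rcases dvd_thirtytwo hd with e | e | e | e | e | e <;> rw [e] at h
  · exact Subgroup.eq_bot_of_card_eq _ e
  all_goals try exact absurd h (by decide)
  exfalso
  have hcom : ∀ a ∈ W, ∀ c ∈ W, a * c = c * a := fun a ha c hc =>
    mul_inv_eq_iff_eq_mul.mp ((H.st.comm_cases (H.le2 (hW ha)) (H.le2 (hW hc))).resolve_right fun e' =>
      hz (by
        rw [show z = a * c * a⁻¹ * c⁻¹ by rw [e']; group]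
        exact mul_mem (mul_mem (mul_mem ha hc) (inv_mem ha)) (inv_mem hc)))
  obtain ⟨a, ha, c, hc, hac⟩ := H.nonabelian2
  have hi : (W.subgroupOf (Q2 Q B)).index = 2 := by
    have h1 := (W.subgroupOf (Q2 Q B)).card_mul_index
    rw [Nat.card_congr (Subgroup.subgroupOfEquivOfLe hW).toEquiv, e, H.card2] at h1
    omega
  have key : ∀ x ∈ Q2 Q B, ∃ w ∈ W, x = w ∨ x = w * z := by
    intro x hx
    by_cases hxW : x ∈ W
    · exact ⟨x, hxW, Or.inl rfl⟩
    refine ⟨x * z, ?_, Or.inr (by rw [mul_assoc, H.st.zz, mul_one])⟩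
    exact (Subgroup.mul_mem_iff_of_index_two hi (a := (⟨x, hx⟩ : Q2 Q B)) (b := ⟨z, H.z_mem2⟩)).mpr
      (iff_of_false hxW hz)
  obtain ⟨a', ha', ea⟩ := key a ha
  obtain ⟨c', hc', ec⟩ := key c hc
  have hzc : ∀ w ∈ W, Commute w z := fun w hw => H.q_z (H.le2 (hW hw))
  have h1 : Commute a c := by
    rcases ea with rfl | rfl <;> rcases ec with rfl | rfl
    · exact hcom _ ha' _ hc'
    · exact Commute.mul_right (hcom _ ha' _ hc') (hzc _ ha')
    · exact Commute.mul_left (hcom _ ha' _ hc') (hzc _ hc').symm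
    · exact Commute.mul_left (Commute.mul_right (hcom _ ha' _ hc') (hzc _ ha'))
        (Commute.mul_right (hzc _ hc').symm (Commute.refl z))
  rw [conj_eq_self h1.eq] at hac
  exact H.st.ne_one (mul_eq_right.mp hac.symm)

/-- An invariant subgroup of `Q2` with a further element is everything. -/
theorem inv_top (W : Subgroup G) (hW : W ≤ Q2 Q B) (hinv : ∀ b ∈ B, ∀ x ∈ W, b * x * b⁻¹ ∈ W)
    (hz : z ∈ W) {x : G} (hx : x ∈ W) (h1 : x ≠ 1) (hxz : x ≠ z) : W = Q2 Q B := by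
  have h := mod_five H.cardB (W : Set G) hinv
  rw [H.fixed_card_two _ hW (one_mem W) hz, SetLike.coe_sort_coe] at h
  have hd := Subgroup.card_dvd_of_le hW
  rw [H.card2] at hd
  rcases dvd_thirtytwo hd with e | e | e | e | e | e <;> rw [e] at h
  all_goals try exact absurd h (by decide)
  · exfalso
    obtain ⟨w, -, huniq⟩ := (Nat.card_eq_two_iff' (1 : W)).1 e
    have a := huniq ⟨x, hx⟩ fun e => h1 (congrArg Subtype.val e)
    have b := huniq ⟨z, hz⟩ fun e => H.st.ne_one (congrArg Subtype.val e)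
    exact hxz (congrArg Subtype.val (a.trans b.symm))
  · exact Subgroup.eq_of_le_of_card_ge hW (by rw [e, H.card2])

/-- An element fixed by `B` whose `Q2`-conjugates are fixed by `B` centralises `Q2`. -/
theorem kill {x : G} (hxB : ∀ b ∈ B, b * x = x * b)
    (h : ∀ a ∈ Q2 Q B, ∀ b ∈ B, b * (a * x * a⁻¹) = a * x * a⁻¹ * b) :
    ∀ a ∈ Q2 Q B, a * x = x * a := by
  classical
  set W : Subgroup G := Q2 Q B ⊓ Subgroup.centralizer ({x} : Set G) with hWdef
  have hmemW : ∀ {w : G}, w ∈ W ↔ w ∈ Q2 Q B ∧ w * x = x * w := fun {w} => by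
    rw [hWdef, Subgroup.mem_inf, Subgroup.mem_centralizer_singleton_iff]
  have hinv : ∀ b ∈ B, ∀ w ∈ W, b * w * b⁻¹ ∈ W := fun b hb w hw =>
    hmemW.mpr ⟨H.b_conj2 hb (hmemW.mp hw).1, conj_commute (hxB b hb) (hmemW.mp hw).2⟩
  have key : ∀ a ∈ Q2 Q B, a ∈ W ∨ z * a ∈ W := by
    intro a ha
    let S : Set G := {y | y ∈ Q2 Q B ∧ a⁻¹ * y ∈ W}
    have hS : ∀ b ∈ B, ∀ y ∈ S, b * y * b⁻¹ ∈ S := by
      rintro b hb y ⟨hy, hy'⟩
      refine ⟨H.b_conj2 hb hy, ?_⟩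
      have h1 : a⁻¹ * (b * a * b⁻¹) ∈ W := by
        refine hmemW.mpr ⟨mul_mem (inv_mem ha) (H.b_conj2 hb ha), ?_⟩
        have hk : (b * a * b⁻¹) * x * (b * a * b⁻¹)⁻¹ = a * x * a⁻¹ := by
          calc (b * a * b⁻¹) * x * (b * a * b⁻¹)⁻¹ = b * (a * (b⁻¹ * x * b⁻¹⁻¹) * a⁻¹) * b⁻¹ := by group
            _ = b * (a * x * a⁻¹) * b⁻¹ := by rw [conj_eq_self (hxB b⁻¹ (inv_mem hb))]
            _ = _ := conj_eq_self (h a ha b hb)
        calc a⁻¹ * (b * a * b⁻¹) * x = a⁻¹ * ((b * a * b⁻¹) * x * (b * a * b⁻¹)⁻¹) * (b * a * b⁻¹) := by group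
          _ = _ := by rw [hk]; group
      rw [show a⁻¹ * (b * y * b⁻¹) = a⁻¹ * (b * a * b⁻¹) * (b * (a⁻¹ * y) * b⁻¹) by group]
      exact mul_mem h1 (hinv b hb _ hy')
    have hcard : Nat.card S = Nat.card W := Nat.card_congr
      { toFun := fun y => ⟨a⁻¹ * y.1, y.2.2⟩
        invFun := fun w => ⟨a * w.1, mul_mem ha (hmemW.mp w.2).1, by
          show a⁻¹ * (a * w.1) ∈ W
          rw [inv_mul_cancel_left]; exact w.2⟩
        left_inv := fun y => Subtype.ext (mul_inv_cancel_left a y.1)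
        right_inv := fun w => Subtype.ext (inv_mul_cancel_left a w.1) }
    obtain ⟨y, hy, hyB⟩ := exists_fixed H.cardB S hS (by
      rw [hcard]
      have hd := Subgroup.card_dvd_of_le (show W ≤ Q2 Q B from inf_le_left)
      rw [H.card2] at hd
      rcases dvd_thirtytwo hd with e | e | e | e | e | e <;> rw [e] <;> decide)
    rcases H.fix2 hy.1 hyB with e | e
    · left
      have := inv_mem hy.2
      rwa [e, mul_one, inv_inv] at this
    · right
      have := inv_mem hy.2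
      rwa [e, mul_inv_rev, inv_inv, H.st.inv_z] at this
  have hz : z ∈ W := by
    obtain ⟨a, ha, c, hc, hac⟩ := H.nonabelian2
    have hcm : ∀ p ∈ Q2 Q B, Commute p z := fun p hp => H.q_z (H.le2 hp)
    obtain ⟨a', ha', hac'⟩ : ∃ a' ∈ W, a' * c * a'⁻¹ = z * c := by
      rcases key a ha with e | e
      · exact ⟨a, e, hac⟩
      · refine ⟨z * a, e, ?_⟩
        rw [show z * a * c * (z * a)⁻¹ = z * (a * c * a⁻¹) * z⁻¹ by group, hac, H.st.inv_z,
          mul_assoc, mul_assoc z c, (hcm c hc).eq, ← mul_assoc z z, H.st.zz, one_mul]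
    obtain ⟨c', hc', hac''⟩ : ∃ c' ∈ W, a' * c' * a'⁻¹ = z * c' := by
      rcases key c hc with e | e
      · exact ⟨c, e, hac'⟩
      · refine ⟨z * c, e, ?_⟩
        have ha2 : a' ∈ Q2 Q B := (hmemW.mp ha').1
        rw [show a' * (z * c) * a'⁻¹ = (a' * z * a'⁻¹) * (a' * c * a'⁻¹) by group,
          conj_eq_self (hcm a' ha2).eq, hac']
    rw [show z = a' * c' * a'⁻¹ * c'⁻¹ by rw [hac'']; group]
    exact mul_mem (mul_mem (mul_mem ha' hc') (inv_mem ha')) (inv_mem hc')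
  intro a ha
  refine (hmemW.mp ((key a ha).elim id fun e => ?_)).2
  have := mul_mem (inv_mem hz) e
  rwa [inv_mul_cancel_left] at this

theorem ex2 : Cfsg.IsExtraspecial 2 ↥(Q2 Q B) := by
  haveI : Fact (Nat.Prime 2) := ⟨Nat.prime_two⟩
  have hcen : ∀ x : ↥(Q2 Q B), ((x : G) = 1 ∨ (x : G) = z) → x ∈ Subgroup.center ↥(Q2 Q B) := fun x hx =>
    Subgroup.mem_center_iff.mpr fun y => Subtype.ext (by
      show (y : G) * x = x * y
      rcases hx with e | e <;> rw [e]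
      · rw [mul_one, one_mul]
      · exact H.q_z (H.le2 y.2))
  refine isExtraspecial_of (IsPGroup.of_card (n := 5) H.card2) ?_ (fun a b => hcen _ ?_) (fun a => hcen _ ?_) ?_
  · refine (Nat.card_eq_two_iff' (1 : Subgroup.center ↥(Q2 Q B))).mpr
      ⟨⟨⟨z, H.z_mem2⟩, hcen _ (Or.inr rfl)⟩,
        fun e => H.st.ne_one (congrArg (fun t : Subgroup.center ↥(Q2 Q B) => ((t : ↥(Q2 Q B)) : G)) e), ?_⟩
    rintro ⟨x, hx⟩ hne
    refine Subtype.ext (Subtype.ext ((H.q2_central x.2 fun q hq =>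
      congrArg Subtype.val (Subgroup.mem_center_iff.mp hx ⟨q, hq⟩)).resolve_left fun e => hne ?_))
    exact Subtype.ext (Subtype.ext e)
  · show ((a : G) * b * (a : G)⁻¹ * (b : G)⁻¹ = 1 ∨ (a : G) * b * (a : G)⁻¹ * (b : G)⁻¹ = z)
    rcases H.st.comm_cases (H.le2 a.2) (H.le2 b.2) with e | e
    · exact Or.inl (by rw [e, mul_inv_cancel])
    · exact Or.inr (by rw [e, mul_inv_cancel_right])
  · show (((a ^ 2 : ↥(Q2 Q B)) : G) = 1 ∨ ((a ^ 2 : ↥(Q2 Q B)) : G) = z)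
    rw [SubmonoidClass.coe_pow, pow_two]
    exact H.st.sq_cases (H.le2 a.2)
  · obtain ⟨a, ha, c, hc, hac⟩ := H.nonabelian2
    refine ⟨⟨a, ha⟩, ⟨c, hc⟩, fun e => H.st.ne_one ?_⟩
    have e' : a * c * a⁻¹ * c⁻¹ = 1 := congrArg Subtype.val e
    rwa [hac, mul_inv_cancel_right] at e'

theorem no_elem2 : ¬ ∃ A : Subgroup ↥(Q2 Q B), Cfsg.IsElementaryAbelian 2 A ∧ Nat.card ↥A = 2 ^ (2 + 1) := by
  haveI : Fact (Nat.Prime 2) := ⟨Nat.prime_two⟩
  have hex := H.ex2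
  obtain ⟨m, -, hcm, hcases⟩ := invariants _ _ hex rfl
  have hm : m = 2 := by
    rw [H.card2] at hcm
    have := Nat.pow_right_injective le_rfl (show 2 ^ 5 = 2 ^ (2 * m + 1) from hcm)
    omega
  subst hm
  let S : Set G := {x | x ∈ Q2 Q B ∧ x * x = 1}
  have hcard : Nat.card S = sqOne ↥(Q2 Q B) := Nat.card_congr
    { toFun := fun x => ⟨⟨x.1, x.2.1⟩, Subtype.ext ((pow_two x.1).trans x.2.2)⟩
      invFun := fun g => ⟨g.1.1, g.1.2, by
        have := congrArg Subtype.val g.2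
        rwa [SubmonoidClass.coe_pow, pow_two] at this⟩
      left_inv := fun x => rfl
      right_inv := fun g => rfl }
  have h := mod_five H.cardB S fun b hb x hx => ⟨H.b_conj2 hb hx.1, by
    rw [show b * x * b⁻¹ * (b * x * b⁻¹) = b * (x * x) * b⁻¹ by group, hx.2]; group⟩
  rw [H.fixed_card_two S (fun x hx => hx.1) ⟨one_mem _, one_mul 1⟩ ⟨H.z_mem2, H.st.zz⟩, hcard] at h
  rcases hcases with ⟨h2, -, -⟩ | ⟨-, h3, -⟩
  · rw [h2] at h
    exact absurd h (by decide)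
  · rintro ⟨A, hA, hAc⟩
    have := h3 A hA
    rw [hAc] at this
    norm_num at this

theorem exists_coord2 : Nonempty (↥(Q2 Q B) ≃* Model e4) :=
  equiv_model e4 H.ex2 (by norm_num) (by rw [H.card2]; norm_num) false
    (iff_of_false Bool.false_ne_true H.no_elem2) (by simp [Fin.prod_univ_two])

end Hyp

end CfsgLib.ConwayFive
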