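import Cfsg.Agent.Lib.ConwayFive.Top

/-!
The centraliser of `B`: the two layers, a mover, and an involution not conjugate to `z`.
-/

set_option autoImplicit false

namespace CfsgLib.ConwayFive

open CfsgLib.Extraspecial

variable {G : Type*} [Group G] [Finite G] {z : G} {Q B : Subgroup G}

theorem hom_alt5_trivial {L M : Type*} [Group L] [Group M] [Finite M] (π : L →* A₅) (hπ : Function.Surjective π)
    (f : L →* M) (hk : ∀ l, π l = 1 → f l = 1) (hM : Nat.card M < 60) (l : L) : f l = 1 := by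
  haveI : IsSimpleGroup A₅ := alternatingGroup.isSimpleGroup_five
  let g : A₅ →* M := π.liftOfSurjective hπ ⟨f, fun x hx => hk x hx⟩
  have hg : ∀ x, g (π x) = f x := fun x => MonoidHom.liftOfRightInverse_comp_apply _ _ _ _ x
  rcases (MonoidHom.normal_ker g).eq_bot_or_eq_top with h | h
  · exfalso
    have h1 := Nat.card_le_card_of_injective g ((MonoidHom.ker_eq_bot_iff g).1 h)
    rw [nat_card_alternatingGroup, Nat.card_fin] at h1
    change 5 * 4 * 3 * 2 * 1 / 2 ≤ _ at h1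
    omega
  · rw [← hg, ← MonoidHom.mem_ker, h]; exact Subgroup.mem_top _

namespace Hyp

variable (H : Hyp z Q B)
include H

theorem cQ_eq {c : G} (h1 : ∀ q ∈ Q1 Q B, q * c = c * q) (h2 : ∀ q ∈ Q2 Q B, q * c = c * q) :
    c = 1 ∨ c = z := by
  refine H.st.mem_zpowers (H.st.cQ ▸ Subgroup.mem_centralizer_iff.mpr fun q hq => ?_)
  obtain ⟨a, ha, d, hd, rfl⟩ := H.decomp hq
  exact (show Commute a c from h1 a ha).mul_left (h2 d hd)

theorem mem1_of_comm {q : G} (hq : q ∈ Q) (h : ∀ x ∈ Q2 Q B, x * q = q * x) : q ∈ Q1 Q B := by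
  obtain ⟨a, ha, d, hd, rfl⟩ := H.decomp hq
  have hd' : ∀ x ∈ Q2 Q B, x * d = d * x := fun x hx => by
    have h1 : Commute x (a * d) := h x hx
    have h2 : Commute x a := (H.comm12 ha hx).symm
    have h3 := h2.inv_right.mul_right h1
    rwa [inv_mul_cancel_left] at h3
  rcases H.q2_central hd hd' with e | e <;> rw [e]
  · rwa [mul_one]
  · exact mul_mem ha H.z_mem1

theorem L1_z {l : G} (h : l ∈ L1 z Q B) : l * z = z * l := (mem_L1.mp h).1

theorem L2_z {l : G} (h : l ∈ L2 z Q B) : l * z = z * l := (mem_L2.mp h).1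

theorem L1_norm1 {l x : G} (hl : l ∈ L1 z Q B) (hx : x ∈ Q1 Q B) : l * x * l⁻¹ ∈ Q1 Q B :=
  H.mem1_of_comm (H.conj_memQ (H.L1_z hl) (H.le1 hx)) fun q hq =>
    (conj_commute ((mem_L1.mp hl).2 q hq).symm (H.comm12 hx hq)).symm

theorem L2_norm2 {l x : G} (hl : l ∈ L2 z Q B) (hx : x ∈ Q2 Q B) : l * x * l⁻¹ ∈ Q2 Q B :=
  mem_Q2.mpr ⟨H.conj_memQ (H.L2_z hl) (H.le2 hx), fun q hq =>
    (conj_commute ((mem_L2.mp hl).2 q hq).symm (H.comm12 hq hx).symm).symm⟩

theorem Q1_le_L1 : Q1 Q B ≤ L1 z Q B := fun _ hx =>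
  mem_L1.mpr ⟨H.q_z (H.le1 hx), fun _ hq => (H.comm12 hx hq).symm⟩

theorem Q2_le_L2 : Q2 Q B ≤ L2 z Q B := fun _ hx =>
  mem_L2.mpr ⟨H.q_z (H.le2 hx), fun _ hq => H.comm12 hq hx⟩

theorem B_le_L2 : B ≤ L2 z Q B := fun b hb =>
  mem_L2.mpr ⟨H.b_z hb, fun _ hq => ((mem_Q1.mp hq).2 b hb).symm⟩

theorem L1_inf_Q {x : G} (hx : x ∈ L1 z Q B) (hxQ : x ∈ Q) : x ∈ Q1 Q B :=
  H.mem1_of_comm hxQ (mem_L1.mp hx).2

theorem b_eq_one {b : G} (hb : b ∈ B) (h : b * b = 1) : b = 1 := by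
  haveI : Fact (Nat.Prime 5) := ⟨by norm_num⟩
  have h5 : b ^ 5 = 1 := by
    have := pow_card_eq_one' (x := (⟨b, hb⟩ : B))
    rw [H.cardB] at this
    exact congrArg Subtype.val this
  rwa [show b ^ 5 = b * b * (b * b) * b by simp [pow_succ, mul_assoc], h, one_mul, one_mul] at h5

theorem L1_inf_B {x : G} (hx : x ∈ L1 z Q B) (hxB : x ∈ B) : x = 1 := by
  rcases H.cQ_eq (mem_L2.mp (H.B_le_L2 hxB)).2 (mem_L1.mp hx).2 with h | h
  · exact h
  · exact H.b_eq_one hxB (h ▸ H.st.zz)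

theorem conj (h : G) (hh : ∀ b ∈ B, b * h = h * b) :
    Hyp (h * z * h⁻¹) (Q.map (MulAut.conj h).toMonoidHom) B := by
  have e1 : Q1 (Q.map (MulAut.conj h).toMonoidHom) B = (Q1 Q B).map (MulAut.conj h).toMonoidHom := by
    ext x
    constructor
    · intro hx
      obtain ⟨⟨q, hq, rfl⟩, hB⟩ := mem_Q1.mp hx
      refine ⟨q, mem_Q1.mpr ⟨hq, fun b hb => ?_⟩, rfl⟩
      have h1 : Commute b (h * q * h⁻¹) := hB b hb
      have h2 : Commute b h := hh b hb
      have h3 := (h2.inv_right.mul_right h1).mul_right h2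
      rwa [show h⁻¹ * (h * q * h⁻¹) * h = q by group] at h3
    · rintro ⟨q, hq, rfl⟩
      exact mem_Q1.mpr ⟨⟨q, H.le1 hq, rfl⟩, fun b hb =>
        (conj_commute (hh b hb).symm ((mem_Q1.mp hq).2 b hb).symm).symm⟩
  haveI : Fact (Nat.Prime 2) := ⟨Nat.prime_two⟩
  refine ⟨H.st.conj h, ?_, H.cardB, fun b hb => ?_, ?_, ?_, ?_⟩
  · rw [← Nat.card_congr (Q.equivMapOfInjective _ (MulAut.conj h).injective).toEquiv, H.card]
  · rw [Subgroup.mem_centralizer_singleton_iff]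
    exact (conj_commute (hh b hb).symm (H.b_z hb).symm).symm
  · rw [e1]
    exact isExtraspecial_congr ((Q1 Q B).equivMapOfInjective _ (MulAut.conj h).injective) H.ex1
  · rw [e1, ← Nat.card_congr ((Q1 Q B).equivMapOfInjective _ (MulAut.conj h).injective).toEquiv, H.card1]
  · intro A hA hAe
    rw [e1] at hA
    have hle : A.map (MulAut.conj h).symm.toMonoidHom ≤ Q1 Q B := by
      rintro _ ⟨a, ha, rfl⟩
      obtain ⟨q, hq, rfl⟩ := hA ha
      simpa [mul_assoc] using hq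
    have := H.minus _ hle ⟨⟨⟨by
      rintro ⟨_, a, ha, rfl⟩ ⟨_, b, hb, rfl⟩
      exact Subtype.ext (((show Commute a b from congrArg Subtype.val (hAe.1.is_comm.comm ⟨a, ha⟩ ⟨b, hb⟩))).map
        (MulAut.conj h).symm.toMonoidHom)⟩⟩, by
      rintro _ ⟨a, ha, rfl⟩
      rw [← map_pow, hAe.2 a ha, map_one]⟩
    rwa [Subgroup.card_map_of_injective (MulAut.conj h).symm.injective] at this

theorem card_invol2 : Nat.card {x : G // x ∈ Q2 Q B ∧ x * x = 1} = 12 := by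
  obtain ⟨m, -, hcm, hcases⟩ := invariants _ _ H.ex2 rfl
  have hm : m = 2 := by
    rw [H.card2] at hcm
    have := Nat.pow_right_injective le_rfl (show 2 ^ 5 = 2 ^ (2 * m + 1) from hcm)
    omega
  subst hm
  have hcard : Nat.card {x : G // x ∈ Q2 Q B ∧ x * x = 1} = sqOne ↥(Q2 Q B) := Nat.card_congr
    { toFun := fun x => ⟨⟨x.1, x.2.1⟩, Subtype.ext ((pow_two x.1).trans x.2.2)⟩
      invFun := fun g => ⟨g.1.1, g.1.2, by
        have := congrArg Subtype.val g.2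
        rwa [SubmonoidClass.coe_pow, pow_two] at this⟩
      left_inv := fun x => rfl
      right_inv := fun g => rfl }
  rcases hcases with ⟨-, -, h3⟩ | ⟨h2, -⟩
  · exact absurd h3 H.no_elem2
  · rw [hcard, h2]; norm_num

/-- `C(z) ∩ C(B) = L1 B`. -/
theorem cb_decomp {c : G} (hcz : c * z = z * c) (hcB : ∀ b ∈ B, b * c = c * b) :
    ∃ l ∈ L1 z Q B, ∃ b ∈ B, c = l * b := by
  classical
  haveI := Fintype.ofFinite G
  set S : Finset G := Finset.univ.filter fun x => x ∈ Q2 Q B ∧ x * x = 1 ∧ x ≠ 1 ∧ x ≠ z with hS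
  have hScard : S.card = 10 := by
    set T : Finset G := Finset.univ.filter fun x => x ∈ Q2 Q B ∧ x * x = 1 with hT
    have hTc : T.card = 12 := by
      rw [← H.card_invol2, Nat.card_eq_fintype_card, Fintype.card_subtype]
    have e : S = T \ {1, z} := by
      ext x
      simp only [hS, hT, Finset.mem_filter, Finset.mem_univ, true_and, Finset.mem_sdiff, Finset.mem_insert,
        Finset.mem_singleton, not_or, and_assoc]
    rw [e, Finset.card_sdiff_of_subset ?_, hTc, Finset.card_pair (Ne.symm H.st.ne_one)]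
    intro x hx
    rw [hT, Finset.mem_filter]
    simp only [Finset.mem_insert, Finset.mem_singleton] at hx
    rcases hx with rfl | rfl
    · exact ⟨Finset.mem_univ _, one_mem _, one_mul 1⟩
    · exact ⟨Finset.mem_univ _, H.z_mem2, H.st.zz⟩
  obtain ⟨x, hxS⟩ := Finset.card_pos.mp (show 0 < S.card by omega)
  rw [hS, Finset.mem_filter] at hxS
  obtain ⟨-, hx, hxx, hx1, hxz⟩ := hxS
  have hconjS : ∀ w : G, (∀ q ∈ Q2 Q B, w * q * w⁻¹ ∈ Q2 Q B) → w * z = z * w → ∀ y ∈ S, w * y * w⁻¹ ∈ S := by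
    intro w hw hwz y hy
    rw [hS, Finset.mem_filter] at hy ⊢
    obtain ⟨-, hy, hyy, hy1, hyz⟩ := hy
    refine ⟨Finset.mem_univ _, hw y hy, ?_, fun e => hy1 (conj_eq_one_iff.1 e), fun e => hyz ?_⟩
    · rw [show w * y * w⁻¹ * (w * y * w⁻¹) = w * (y * y) * w⁻¹ by group, hyy]; group
    · rw [show y = w⁻¹ * (w * y * w⁻¹) * w by group, e, mul_assoc, ← hwz, inv_mul_cancel_left]
  have hxz_mem : ∀ y ∈ S, z * y ∈ S := by
    intro y hy
    rw [hS, Finset.mem_filter] at hy ⊢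
    obtain ⟨-, hy, hyy, hy1, hyz⟩ := hy
    refine ⟨Finset.mem_univ _, mul_mem H.z_mem2 hy, ?_, fun e => hyz ?_, fun e => hy1 (mul_eq_left.mp e)⟩
    · rw [mul_assoc z y, ← mul_assoc y z, H.q_z (H.le2 hy), mul_assoc z y, hyy, mul_one, H.st.zz]
    · rw [eq_inv_of_mul_eq_one_right e, H.st.inv_z]
  have hBstab : ∀ b ∈ B, b * x * b⁻¹ = x → b = 1 := by
    intro b hb he
    haveI : Fact (Nat.Prime 5) := ⟨by norm_num⟩
    by_contra hb1
    refine (H.fix2 hx fun b' hb' => ?_).elim hx1 hxz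
    have hgen := mem_zpowers_of_prime_card H.cardB (g := (⟨b, hb⟩ : B)) (g' := ⟨b', hb'⟩)
      (fun e => hb1 (congrArg Subtype.val e))
    obtain ⟨n, hn⟩ := Subgroup.mem_zpowers_iff.mp hgen
    have hn' : b ^ n = b' := congrArg Subtype.val hn
    rw [← hn']
    exact ((show Commute b x from mul_inv_eq_iff_eq_mul.mp he).zpow_left n).eq
  have hxS' : x ∈ S := by rw [hS, Finset.mem_filter]; exact ⟨Finset.mem_univ _, hx, hxx, hx1, hxz⟩
  let O : Finset G := (Finset.univ : Finset B).image fun b : B => (b : G) * x * (b : G)⁻¹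
  have hinj : Function.Injective fun b : B => (b : G) * x * (b : G)⁻¹ := fun a b e => by
    have e' : ((a⁻¹ * b : B) : G) * x * ((a⁻¹ * b : B) : G)⁻¹ = x := by
      calc ((a : G)⁻¹ * b) * x * ((a : G)⁻¹ * b)⁻¹ = (a : G)⁻¹ * ((b : G) * x * (b : G)⁻¹) * a := by group
        _ = _ := by rw [← (show (a : G) * x * (a : G)⁻¹ = (b : G) * x * (b : G)⁻¹ from e)]; group
    have := hBstab _ (a⁻¹ * b : B).2 e'
    exact (inv_mul_eq_one.mp (Subtype.ext this))
  have hOc : O.card = 5 := by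
    rw [Finset.card_image_of_injective _ hinj, Finset.card_univ, ← Nat.card_eq_fintype_card, H.cardB]
  have hdisj : Disjoint O (O.image (z * ·)) := by
    rw [Finset.disjoint_left]
    intro w hw hw'
    simp only [O, Finset.mem_image, Finset.mem_univ, true_and] at hw hw'
    obtain ⟨a, rfl⟩ := hw
    obtain ⟨_, ⟨b, rfl⟩, e⟩ := hw'
    set c : B := a⁻¹ * b
    have e1 : (c : G) * x * (c : G)⁻¹ = z * x := by
      have hza : (a : G)⁻¹ * z = z * (a : G)⁻¹ := (show Commute (a : G) z from H.b_z a.2).inv_left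
      calc ((a : G)⁻¹ * b) * x * ((a : G)⁻¹ * b)⁻¹ = (a : G)⁻¹ * (z * (z * ((b : G) * x * (b : G)⁻¹))) * a := by
            rw [← mul_assoc z z, H.st.zz, one_mul]; group
        _ = z * x := by rw [e, ← mul_assoc (a : G)⁻¹, hza]; group
    have e2 : ((c * c : B) : G) * x * ((c * c : B) : G)⁻¹ = x := by
      calc ((c : G) * c) * x * ((c : G) * c)⁻¹ = (c : G) * ((c : G) * x * (c : G)⁻¹) * (c : G)⁻¹ := by group
        _ = (c : G) * (z * x) * (c : G)⁻¹ := by rw [e1]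
        _ = ((c : G) * z * (c : G)⁻¹) * ((c : G) * x * (c : G)⁻¹) := by group
        _ = x := by rw [conj_eq_self (H.b_z c.2), e1, ← mul_assoc, H.st.zz, one_mul]
    have hc1 : (c : G) = 1 := H.b_eq_one c.2 (hBstab _ (c * c).2 e2)
    rw [hc1] at e1
    simp only [inv_one, mul_one, one_mul] at e1
    exact H.st.ne_one (right_eq_mul.mp e1)
  have hsub : ∀ y ∈ O, y ∈ S := fun y hy => by
    simp only [O, Finset.mem_image, Finset.mem_univ, true_and] at hy
    obtain ⟨b, rfl⟩ := hy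
    exact hconjS b (fun q hq => H.b_conj2 b.2 hq) (H.b_z b.2) x hxS'
  have hcover : O ∪ O.image (z * ·) = S := by
    refine Finset.eq_of_subset_of_card_le ?_ ?_
    · intro y hy
      rcases Finset.mem_union.mp hy with h | h
      · exact hsub y h
      · obtain ⟨w, hw, rfl⟩ := Finset.mem_image.mp h
        exact hxz_mem w (hsub w hw)
    · rw [hScard, Finset.card_union_of_disjoint hdisj,
        Finset.card_image_of_injective _ (mul_right_injective z), hOc]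
  have hcn : ∀ q ∈ Q2 Q B, c * q * c⁻¹ ∈ Q2 Q B := fun q hq => mem_Q2.mpr ⟨H.conj_memQ hcz (H.le2 hq),
    fun r hr => by
      have hc' : c⁻¹ * r * c⁻¹⁻¹ ∈ Q1 Q B := H.conj1 (show Commute c z from hcz).inv_left.eq
        (fun b hb => (show Commute b c from hcB b hb).inv_right.eq) hr
      rw [inv_inv] at hc'
      have h := H.comm12 hc' hq
      calc r * (c * q * c⁻¹) = c * (c⁻¹ * r * c * q) * c⁻¹ := by group
        _ = c * (q * (c⁻¹ * r * c)) * c⁻¹ := by rw [h]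
        _ = _ := by group⟩
  -- correct by an element of `B`
  obtain ⟨b, hb, hbx⟩ : ∃ b ∈ B, b⁻¹ * c * x * (b⁻¹ * c)⁻¹ = x ∨ b⁻¹ * c * x * (b⁻¹ * c)⁻¹ = z * x := by
    have h := hconjS c hcn hcz x hxS'
    rw [← hcover, Finset.mem_union] at h
    simp only [O, Finset.mem_image, Finset.mem_univ, true_and] at h
    rcases h with ⟨b, hb⟩ | ⟨w, ⟨b, rfl⟩, hb⟩
    · refine ⟨b, b.2, Or.inl ?_⟩
      calc (b : G)⁻¹ * c * x * ((b : G)⁻¹ * c)⁻¹ = (b : G)⁻¹ * (c * x * c⁻¹) * b := by group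
        _ = _ := by rw [← hb]; group
    · refine ⟨b, b.2, Or.inr ?_⟩
      calc (b : G)⁻¹ * c * x * ((b : G)⁻¹ * c)⁻¹ = (b : G)⁻¹ * (c * x * c⁻¹) * b := by group
        _ = (b : G)⁻¹ * z * b * x := by rw [← hb]; group
        _ = _ := by rw [(show Commute (b : G) z from H.b_z b.2).inv_left.eq, inv_mul_cancel_right]
  set d := b⁻¹ * c with hd
  have hdz : d * z = z * d := ((show Commute b z from H.b_z hb).inv_left.mul_left hcz).eq
  have hdB : ∀ b' ∈ B, b' * d = d * b' := by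
    intro b' hb'
    have hcomm : Commute b' b := by
      haveI : Fact (Nat.Prime 5) := ⟨by norm_num⟩
      haveI := isCyclic_of_prime_card H.cardB
      obtain ⟨g, hg⟩ := IsCyclic.exists_generator (α := B)
      obtain ⟨i, hi⟩ := Subgroup.mem_zpowers_iff.mp (hg ⟨b', hb'⟩)
      obtain ⟨j, hj⟩ := Subgroup.mem_zpowers_iff.mp (hg ⟨b, hb⟩)
      rw [show b' = ((g ^ i : B) : G) by rw [hi], show b = ((g ^ j : B) : G) by rw [hj]]
      exact congrArg Subtype.val ((Commute.refl g).zpow_zpow i j).eq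
    exact (hcomm.inv_right.mul_right (hcB b' hb')).eq
  have hdn : ∀ q ∈ Q2 Q B, d * q * d⁻¹ ∈ Q2 Q B := fun q hq => by
    have := H.b_conj2 (inv_mem hb) (hcn q hq)
    rw [hd]
    rwa [show b⁻¹ * c * q * (b⁻¹ * c)⁻¹ = b⁻¹ * (c * q * c⁻¹) * b⁻¹⁻¹ by group]
  let W : Subgroup G :=
    { carrier := {q | q ∈ Q2 Q B ∧ (d * q * d⁻¹ = q ∨ d * q * d⁻¹ = z * q)}
      one_mem' := ⟨one_mem _, Or.inl (by group)⟩
      mul_mem' := fun {p q} hp hq => ⟨mul_mem hp.1 hq.1, by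
        rw [show d * (p * q) * d⁻¹ = d * p * d⁻¹ * (d * q * d⁻¹) by group]
        have hzp : p * z = z * p := H.q_z (H.le2 hp.1)
        rcases hp.2 with e | e <;> rcases hq.2 with e' | e' <;> rw [e, e']
        · exact Or.inl rfl
        · exact Or.inr (by rw [← mul_assoc, hzp, mul_assoc])
        · exact Or.inr (by rw [mul_assoc])
        · exact Or.inl (by rw [mul_assoc z p, ← mul_assoc p z, hzp, ← mul_assoc, ← mul_assoc, H.st.zz, one_mul])⟩
      inv_mem' := fun {p} hp => ⟨inv_mem hp.1, by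
        rw [show d * p⁻¹ * d⁻¹ = (d * p * d⁻¹)⁻¹ by group]
        rcases hp.2 with e | e <;> rw [e]
        · exact Or.inl rfl
        · exact Or.inr (by
            rw [mul_inv_rev, H.st.inv_z, H.q_z (inv_mem (H.le2 hp.1))])⟩ }
  have hWinv : ∀ b' ∈ B, ∀ q ∈ W, b' * q * b'⁻¹ ∈ W := by
    rintro b' hb' q ⟨hq, hq'⟩
    refine ⟨H.b_conj2 hb' hq, ?_⟩
    have e0 : d * (b' * q * b'⁻¹) * d⁻¹ = b' * (d * q * d⁻¹) * b'⁻¹ := by
      calc d * (b' * q * b'⁻¹) * d⁻¹ = (d * b') * q * (d * b')⁻¹ := by group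
        _ = (b' * d) * q * (b' * d)⁻¹ := by rw [hdB b' hb']
        _ = _ := by group
    rw [e0]
    rcases hq' with e | e <;> rw [e]
    · exact Or.inl rfl
    · exact Or.inr (by rw [← mul_assoc b', H.b_z hb']; group)
  have hWtop : W = Q2 Q B := H.inv_top W (fun q hq => hq.1) hWinv
    ⟨H.z_mem2, Or.inl (conj_eq_self hdz)⟩ (x := x) ⟨hx, hbx⟩ hx1 hxz
  have hkill := H.kill (x := d) hdB fun a ha b' hb' => by
    have ha' : a ∈ W := hWtop.symm ▸ ha
    rcases ha'.2 with e | e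
    · rw [conj_eq_self ((show Commute d a from mul_inv_eq_iff_eq_mul.mp e).symm.eq)]; exact hdB b' hb'
    · have e1 : a * d * a⁻¹ = z * d := by
        have h1 : d * a = z * a * d := mul_inv_eq_iff_eq_mul.mp e
        have h2 : a * d = z * (d * a) := by rw [h1, ← mul_assoc z, ← mul_assoc z, H.st.zz, one_mul]
        rw [h2]; group
      rw [e1]
      exact ((show Commute b' z from H.b_z hb').mul_right (hdB b' hb')).eq
  refine ⟨d, mem_L1.mpr ⟨hdz, hkill⟩, b, hb, ?_⟩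
  rw [← hdB b hb, hd, mul_inv_cancel_left]

/-- A small element of `C(z) ∩ C(B)` lies in `L1`. -/
theorem mem_L1_of_pow_four {c : G} (hcz : c * z = z * c) (hcB : ∀ b ∈ B, b * c = c * b)
    (h4 : c * c * (c * c) = 1) : c ∈ L1 z Q B := by
  obtain ⟨l, hl, b, hb, rfl⟩ := H.cb_decomp hcz hcB
  have hlb : Commute l b := by
    have h1 : Commute b (l * b) := hcB b hb
    have h2 := h1.mul_right (Commute.refl b).inv_right
    rw [mul_inv_cancel_right] at h2
    exact h2.symm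
  have e : l * b * (l * b) * (l * b * (l * b)) = l * l * (l * l) * (b * b * (b * b)) := by
    have c2 : Commute (l * l) (b * b) := (hlb.mul_right hlb).mul_left (hlb.mul_right hlb)
    calc l * b * (l * b) * (l * b * (l * b)) = l * (b * l) * b * (l * (b * l) * b) := by group
      _ = l * l * (b * b) * (l * l * (b * b)) := by rw [← hlb.eq]; group
      _ = l * l * ((b * b) * (l * l)) * (b * b) := by group
      _ = _ := by rw [← c2.eq]; group
  rw [e] at h4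
  have h1 : b * b * (b * b) ∈ L1 z Q B := by
    rw [eq_inv_of_mul_eq_one_right h4]
    exact inv_mem (mul_mem (mul_mem hl hl) (mul_mem hl hl))
  have h2 := H.L1_inf_B h1 (mul_mem (mul_mem hb hb) (mul_mem hb hb))
  have h3 : b * b = 1 := H.b_eq_one (mul_mem hb hb) h2
  rw [H.b_eq_one hb h3, mul_one]
  exact hl

theorem pow_four {q : G} (hq : q ∈ Q) : q * q * (q * q) = 1 := by
  rcases H.st.sq_cases hq with e | e <;> rw [e]
  · rw [one_mul]
  · exact H.st.zz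

end Hyp

namespace Top

variable (H : Top z Q B)
include H

theorem comm_L {a c : G} (ha : a ∈ L1 z Q B) (hc : c ∈ L2 z Q B) : a * c = c * a := by
  have hval : ∀ a ∈ L1 z Q B, a * c * a⁻¹ * c⁻¹ = 1 ∨ a * c * a⁻¹ * c⁻¹ = z := by
    intro a ha
    refine H.toHyp.cQ_eq (fun q hq => ?_) (fun q hq => ?_)
    · have h1 : Commute q c := (mem_L2.mp hc).2 q hq
      have h2 : Commute (a⁻¹ * q * a) c := (mem_L2.mp hc).2 _ (by
        have := H.toHyp.L1_norm1 (inv_mem ha) hq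
        rwa [inv_inv] at this)
      calc q * (a * c * a⁻¹ * c⁻¹) = a * ((a⁻¹ * q * a) * c) * a⁻¹ * c⁻¹ := by group
        _ = a * c * a⁻¹ * (q * c⁻¹) := by rw [h2.eq]; group
        _ = _ := by rw [h1.inv_right.eq]; group
    · have h1 : Commute q a := (mem_L1.mp ha).2 q hq
      have h2 : Commute (c⁻¹ * q * c) a := (mem_L1.mp ha).2 _ (by
        have := H.toHyp.L2_norm2 (inv_mem hc) hq
        rwa [inv_inv] at this)
      calc q * (a * c * a⁻¹ * c⁻¹) = (q * a) * c * a⁻¹ * c⁻¹ := by group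
        _ = a * c * ((c⁻¹ * q * c) * a⁻¹) * c⁻¹ := by rw [h1.eq]; group
        _ = _ := by rw [h2.inv_right.eq]; group
  have hzc : ∀ a ∈ L1 z Q B, ∀ w, (w = 1 ∨ w = z) → a * w * a⁻¹ = w := fun a ha w hw => by
    rcases hw with rfl | rfl
    · group
    · exact conj_eq_self (H.toHyp.L1_z ha)
  obtain ⟨π, hπ, hπk⟩ := H.quot1
  let f : ↥(L1 z Q B) →* ↥(Subgroup.zpowers z) :=
    MonoidHom.mk' (fun a => ⟨(a : G) * c * (a : G)⁻¹ * c⁻¹, by
      rcases hval a a.2 with h | h <;> rw [h]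
      exacts [one_mem _, Subgroup.mem_zpowers z]⟩) (fun a b => Subtype.ext (by
      show (a : G) * b * c * ((a : G) * b)⁻¹ * c⁻¹ = (a : G) * c * (a : G)⁻¹ * c⁻¹ * ((b : G) * c * (b : G)⁻¹ * c⁻¹)
      have h1 := hzc a a.2 _ (hval b b.2)
      have h2 : Commute ((a : G) * c * (a : G)⁻¹ * c⁻¹) ((b : G) * c * (b : G)⁻¹ * c⁻¹) := by
        rcases hval a a.2 with e | e <;> rcases hval b b.2 with e' | e' <;> rw [e, e'] <;>
          first | exact Commute.one_left z | exact Commute.one_right z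
      rw [h2.eq]
      rw [← h1]
      group))
  have := hom_alt5_trivial π hπ f (fun l hl => Subtype.ext (by
    show (l : G) * c * (l : G)⁻¹ * c⁻¹ = 1
    rw [conj_eq_self ((mem_L2.mp hc).2 _ (H.toHyp.L1_inf_Q l.2 ((hπk l).mp hl))), mul_inv_cancel]))
    (by rw [Nat.card_zpowers, H.st.ordz]; norm_num) ⟨a, ha⟩
  have h1 : a * c * a⁻¹ * c⁻¹ = 1 := congrArg Subtype.val this
  exact mul_inv_eq_iff_eq_mul.mp (mul_inv_eq_one.mp h1)

theorem L1_B {l b : G} (hl : l ∈ L1 z Q B) (hb : b ∈ B) : b * l = l * b :=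
  (H.comm_L hl (H.toHyp.B_le_L2 hb)).symm

theorem conj (h : G) (hh : ∀ b ∈ B, b * h = h * b) :
    Top (h * z * h⁻¹) (Q.map (MulAut.conj h).toMonoidHom) B := by
  set Q' := Q.map (MulAut.conj h).toMonoidHom
  set z' := h * z * h⁻¹
  have H' := H.toHyp.conj h hh
  have hmem : ∀ {x : G}, x ∈ Q' ↔ h⁻¹ * x * h ∈ Q := fun {x} =>
    ⟨by rintro ⟨q, hq, rfl⟩; simpa [mul_assoc] using hq, fun hx => ⟨_, hx, by simp [mul_assoc]⟩⟩
  have hcomm : ∀ {x y : G}, (h⁻¹ * x * h) * (h⁻¹ * y * h) = (h⁻¹ * y * h) * (h⁻¹ * x * h) ↔ x * y = y * x := by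
    intro x y
    rw [show h⁻¹ * x * h * (h⁻¹ * y * h) = h⁻¹ * (x * y) * h by group,
      show h⁻¹ * y * h * (h⁻¹ * x * h) = h⁻¹ * (y * x) * h by group, mul_left_inj, mul_right_inj]
  have hzz : h⁻¹ * z' * h = z := by simp only [z']; group
  have hQ1 : ∀ {x : G}, x ∈ Q1 Q' B ↔ h⁻¹ * x * h ∈ Q1 Q B := by
    intro x
    rw [mem_Q1, mem_Q1, hmem]
    refine and_congr Iff.rfl (forall₂_congr fun b hb => ?_)
    conv_rhs => rw [show b = h⁻¹ * b * h by rw [mul_assoc, hh b hb, inv_mul_cancel_left], hcomm]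
  have hQ2 : ∀ {x : G}, x ∈ Q2 Q' B ↔ h⁻¹ * x * h ∈ Q2 Q B := by
    intro x
    rw [mem_Q2, mem_Q2, hmem]
    refine and_congr Iff.rfl ⟨fun hx q hq => ?_, fun hx q hq => hcomm.mp (hx _ (hQ1.mp hq))⟩
    have := hcomm.mpr (hx (h * q * h⁻¹) (hQ1.mpr (by rwa [show h⁻¹ * (h * q * h⁻¹) * h = q by group])))
    rwa [show h⁻¹ * (h * q * h⁻¹) * h = q by group] at this
  refine ⟨H', ?_, ?_, ?_, ?_⟩
  · intro c hc hcx
    rw [hmem]
    refine H.kerQ _ ?_ fun x hx => ?_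
    · rw [← hzz]; exact hcomm.mpr hc
    · have := hcx (h * x * h⁻¹) ⟨x, hx, by simp⟩
      rcases this with e | e
      · left
        calc h⁻¹ * c * h * x * (h⁻¹ * c * h)⁻¹ = h⁻¹ * (c * (h * x * h⁻¹) * c⁻¹) * h := by group
          _ = x := by rw [e]; group
      · right
        calc h⁻¹ * c * h * x * (h⁻¹ * c * h)⁻¹ = h⁻¹ * (c * (h * x * h⁻¹) * c⁻¹) * h := by group
          _ = z * x := by rw [e]; simp only [z']; group
  · intro x hx hxx hx1 hxz y hy hyy hy1 hyz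
    have back : ∀ {w : G}, w * w = 1 → w ≠ 1 → w ≠ z' →
        h⁻¹ * w * h * (h⁻¹ * w * h) = 1 ∧ h⁻¹ * w * h ≠ 1 ∧ h⁻¹ * w * h ≠ z := by
      intro w hww hw1 hwz
      refine ⟨?_, fun e => hw1 ?_, fun e => hwz ?_⟩
      · rw [show h⁻¹ * w * h * (h⁻¹ * w * h) = h⁻¹ * (w * w) * h by group, hww]; group
      · rw [show w = h * (h⁻¹ * w * h) * h⁻¹ by group, e]; group
      · rw [show w = h * (h⁻¹ * w * h) * h⁻¹ by group, e]
    obtain ⟨x1, x2, x3⟩ := back hxx hx1 hxz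
    obtain ⟨y1, y2, y3⟩ := back hyy hy1 hyz
    have i1 : IsConj x (h⁻¹ * x * h) := isConj_iff.mpr ⟨h⁻¹, by rw [inv_inv]⟩
    have i2 : IsConj y (h⁻¹ * y * h) := isConj_iff.mpr ⟨h⁻¹, by rw [inv_inv]⟩
    exact i1.trans ((H.trans _ (hmem.mp hx) x1 x2 x3 _ (hmem.mp hy) y1 y2 y3).trans i2.symm)
  · obtain ⟨π, hπ, hk⟩ := H.quot1
    have hL : ∀ {x : G}, x ∈ L1 z' Q' B ↔ h⁻¹ * x * h ∈ L1 z Q B := by
      intro x
      rw [mem_L1, mem_L1]
      refine and_congr (by conv_rhs => rw [← hzz, hcomm]) ⟨fun hx q hq => ?_, fun hx q hq => hcomm.mp (hx _ (hQ2.mp hq))⟩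
      have := hcomm.mpr (hx (h * q * h⁻¹) (hQ2.mpr (by rwa [show h⁻¹ * (h * q * h⁻¹) * h = q by group])))
      rwa [show h⁻¹ * (h * q * h⁻¹) * h = q by group] at this
    let f : ↥(L1 z' Q' B) →* ↥(L1 z Q B) := MonoidHom.mk' (fun x => ⟨h⁻¹ * x * h, hL.mp x.2⟩)
      (fun a b => Subtype.ext (by show h⁻¹ * ((a : G) * b) * h = h⁻¹ * a * h * (h⁻¹ * b * h); group))
    refine ⟨π.comp f, hπ.comp fun y => ⟨⟨h * y * h⁻¹, hL.mpr ?_⟩, Subtype.ext ?_⟩, fun l => ?_⟩
    · rw [show h⁻¹ * (h * (y : G) * h⁻¹) * h = y by group]; exact y.2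
    · show h⁻¹ * (h * (y : G) * h⁻¹) * h = y; group
    · show π (f l) = 1 ↔ _
      rw [hk, hmem]; rfl
  · obtain ⟨π, hπ, hk⟩ := H.quot2
    have hL : ∀ {x : G}, x ∈ L2 z' Q' B ↔ h⁻¹ * x * h ∈ L2 z Q B := by
      intro x
      rw [mem_L2, mem_L2]
      refine and_congr (by conv_rhs => rw [← hzz, hcomm]) ⟨fun hx q hq => ?_, fun hx q hq => hcomm.mp (hx _ (hQ1.mp hq))⟩
      have := hcomm.mpr (hx (h * q * h⁻¹) (hQ1.mpr (by rwa [show h⁻¹ * (h * q * h⁻¹) * h = q by group])))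
      rwa [show h⁻¹ * (h * q * h⁻¹) * h = q by group] at this
    let f : ↥(L2 z' Q' B) →* ↥(L2 z Q B) := MonoidHom.mk' (fun x => ⟨h⁻¹ * x * h, hL.mp x.2⟩)
      (fun a b => Subtype.ext (by show h⁻¹ * ((a : G) * b) * h = h⁻¹ * a * h * (h⁻¹ * b * h); group))
    refine ⟨π.comp f, hπ.comp fun y => ⟨⟨h * y * h⁻¹, hL.mpr ?_⟩, Subtype.ext ?_⟩, fun l => ?_⟩
    · rw [show h⁻¹ * (h * (y : G) * h⁻¹) * h = y by group]; exact y.2
    · show h⁻¹ * (h * (y : G) * h⁻¹) * h = y; group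
    · show π (f l) = 1 ↔ _
      rw [hk, hmem]; rfl

end Top

end CfsgLib.ConwayFive
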