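import Cfsg.Agent.Lib.ConwayFive.Quad
import Cfsg.Agent.Lib.J2Uniq.Statements
import Cfsg.Agent.Lib.J2.Simple

/-!
In a group of Conway type, `C(B)` is `B × J2` and the centraliser of its layer is `A5`.
-/

set_option autoImplicit false

namespace CfsgLib.ConwayFive

open CfsgLib.Extraspecial
open scoped commutatorElement

variable {G : Type*} [Group G] [Finite G] {z g : G} {Q B : Subgroup G}

theorem comm_five {H : Subgroup G} (hH : Nat.card H = 5) {a b : G} (ha : a ∈ H) (hb : b ∈ H) :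
    a * b = b * a := by
  haveI : Fact (Nat.Prime 5) := ⟨by norm_num⟩
  haveI : IsCyclic ↥H := isCyclic_of_prime_card hH
  letI : CommGroup ↥H := IsCyclic.commGroup
  exact congrArg Subtype.val (mul_comm (⟨a, ha⟩ : ↥H) ⟨b, hb⟩)

theorem alt5_center : ∀ a : A₅, (∀ x : A₅, a * x = x * a) → a = 1 := by
  decide +kernel

namespace Mov

variable (M : Mov z Q B g)
include M

local notation "z'" => g * z * g⁻¹
local notation "Q'" => Qc Q g
local notation "Y₀" => (L1 z Q B ⊔ L1 (g * z * g⁻¹) (Qc Q g) B)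
local notation "U₀" => (L2 z Q B ⊓ L2 (g * z * g⁻¹) (Qc Q g) B)

theorem L1_le_CB : L1 z Q B ≤ Subgroup.centralizer (B : Set G) := fun _ hl =>
  Subgroup.mem_centralizer_iff.mpr fun _ hb => M.toTop.L1_B hl hb

theorem g_mem : g ∈ Y₀ := sup_le_sup M.toHyp.Q1_le_L1 M.tc.toHyp.Q1_le_L1 M.gen

theorem Y_le_CB : Y₀ ≤ Subgroup.centralizer (B : Set G) :=
  sup_le M.L1_le_CB (fun _ hl => Subgroup.mem_centralizer_iff.mpr fun _ hb => M.tc.L1_B hl hb)

theorem U_comm {u y : G} (hu : u ∈ U₀) (hy : y ∈ Y₀) : u * y = y * u := by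
  have hle : Y₀ ≤ Subgroup.centralizer ({u} : Set G) :=
    sup_le (fun l hl => Subgroup.mem_centralizer_singleton_iff.mpr (M.toTop.comm_L hl hu.1))
      (fun l hl => Subgroup.mem_centralizer_singleton_iff.mpr (M.tc.comm_L hl hu.2))
  exact (Subgroup.mem_centralizer_singleton_iff.mp (hle hy)).symm

theorem B_le_U : B ≤ U₀ := le_inf M.toHyp.B_le_L2 M.tc.toHyp.B_le_L2

theorem B_inf_Y {b : G} (hb : b ∈ B) (hy : b ∈ Y₀) : b = 1 := by
  obtain ⟨e⟩ := M.exists_U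
  have h := alt5_center (e ⟨b, M.B_le_U hb⟩) fun x => by
    obtain ⟨u, rfl⟩ := e.surjective x
    rw [← map_mul, ← map_mul]
    exact congrArg e (Subtype.ext (M.U_comm u.2 hy).symm)
  rw [MulEquiv.map_eq_one_iff] at h
  exact congrArg Subtype.val h

set_option maxHeartbeats 800000 in
/-- The quotient of a subgroup of `C(B)` containing `L1` and `g` is `J2`, of Hall–Janko type. -/
theorem quot_data (H : Subgroup G) (hL : L1 z Q B ≤ H) (hg : g ∈ H)
    (hH : H ≤ Subgroup.centralizer (B : Set G)) [(B.subgroupOf H).Normal] :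
    Cfsg.Spor.IsoJ2 (↥H ⧸ B.subgroupOf H) ∧ ∃ zb : ↥H ⧸ B.subgroupOf H, orderOf zb = 2 ∧
      ∃ (Qx : Subgroup (Subgroup.centralizer ({zb} : Set (↥H ⧸ B.subgroupOf H)))) (_ : Qx.Normal),
        Cfsg.generalizedFittingSubgroup (Subgroup.centralizer ({zb} : Set (↥H ⧸ B.subgroupOf H))) = Qx ∧
        Cfsg.IsExtraspecial 2 Qx ∧ Nat.card Qx = 2 ^ 5 ∧
        Nonempty ((Subgroup.centralizer ({zb} : Set (↥H ⧸ B.subgroupOf H))) ⧸ Qx ≃*
          Cfsg.Omega (ZMod 2) (Cfsg.quadFormMinus 1 (ZMod 2) 1 1)) ∧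
        ∃ x : ↥H ⧸ B.subgroupOf H, (∃ hq : x * zb * x⁻¹ ∈ Subgroup.centralizer ({zb} : Set (↥H ⧸ B.subgroupOf H)),
          (⟨x * zb * x⁻¹, hq⟩ : Subgroup.centralizer ({zb} : Set (↥H ⧸ B.subgroupOf H))) ∈ Qx) ∧
          x * zb * x⁻¹ ≠ zb := by
  classical
  haveI : Fact (Nat.Prime 2) := ⟨Nat.prime_two⟩
  set N := B.subgroupOf H with hNdef
  let mk : ↥H →* ↥H ⧸ N := QuotientGroup.mk' N
  have hmk : ∀ a b : ↥H, mk a = mk b → ∃ n ∈ B, (b : G) = a * n := fun a b h => by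
    refine ⟨(a : G)⁻¹ * b, ?_, (mul_inv_cancel_left _ _).symm⟩
    have h1 : a⁻¹ * b ∈ N := QuotientGroup.eq.mp h
    exact h1
  have hB : ∀ {x : G}, x ∈ H → ∀ b ∈ B, b * x = x * b := fun hx b hb =>
    Subgroup.mem_centralizer_iff.mp (hH hx) b hb
  have hzL : z ∈ L1 z Q B := M.toHyp.Q1_le_L1 M.toHyp.z_mem1
  set zb : ↥H ⧸ N := mk ⟨z, hL hzL⟩ with hzb
  have hzb1 : zb ≠ 1 := fun h => by
    have h1 : (⟨z, hL hzL⟩ : ↥H) ∈ N := (QuotientGroup.eq_one_iff _).mp h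
    exact M.st.ne_one (M.toHyp.L1_inf_B hzL h1)
  have hzord : orderOf zb = 2 := by
    refine orderOf_eq_prime ?_ hzb1
    rw [pow_two, hzb, ← map_mul, show (⟨z, hL hzL⟩ : ↥H) * ⟨z, hL hzL⟩ = 1 from Subtype.ext M.st.zz, map_one]
  set C := Subgroup.centralizer ({zb} : Set (↥H ⧸ N)) with hC
  let ι : ↥(L1 z Q B) →* ↥C := (mk.comp (Subgroup.inclusion hL)).codRestrict C fun l => by
    rw [hC, Subgroup.mem_centralizer_singleton_iff, hzb]
    show mk (Subgroup.inclusion hL l) * mk ⟨z, hL hzL⟩ = mk ⟨z, hL hzL⟩ * mk (Subgroup.inclusion hL l)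
    rw [← map_mul, ← map_mul]
    exact congrArg mk (Subtype.ext (M.toHyp.L1_z l.2))
  have hιv : ∀ l, (ι l : ↥H ⧸ N) = mk ⟨l.1, hL l.2⟩ := fun l => rfl
  have hιbij : Function.Bijective ι := by
    constructor
    · intro a b h
      obtain ⟨n, hn, e⟩ := hmk _ _ (congrArg Subtype.val h)
      change (b : G) = a * n at e
      have h1 : n ∈ L1 z Q B := by
        rw [show n = (a : G)⁻¹ * b by rw [e, inv_mul_cancel_left]]
        exact mul_mem (inv_mem a.2) b.2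
      rw [M.toHyp.L1_inf_B h1 hn, mul_one] at e
      exact Subtype.ext e.symm
    · rintro ⟨x, hx⟩
      obtain ⟨h, rfl⟩ := QuotientGroup.mk'_surjective N x
      rw [hC, Subgroup.mem_centralizer_singleton_iff, hzb] at hx
      change mk h * mk _ = mk _ * mk h at hx
      rw [← map_mul, ← map_mul] at hx
      obtain ⟨n, hn, e⟩ := hmk _ _ hx
      have e' : z * (h : G) = h * z * n := e
      have hcB : ∀ b ∈ B, b * (h : G) = h * b := hB h.2
      have hnn : n = 1 := by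
        refine M.toHyp.b_eq_one hn ?_
        have h2 : (h : G)⁻¹ * z * h = z * n := by rw [mul_assoc, e']; group
        have h3 : (z * n) * (z * n) = 1 := by
          rw [← h2, show (h : G)⁻¹ * z * h * ((h : G)⁻¹ * z * h) = (h : G)⁻¹ * (z * z) * h by group, M.st.zz]
          group
        rwa [show z * n * (z * n) = z * (n * z) * n by group, M.toHyp.b_z hn, ← mul_assoc z z, M.st.zz,
          one_mul] at h3
      rw [hnn, mul_one] at e'
      obtain ⟨l, hl, b, hb, hdec⟩ := M.toHyp.cb_decomp e'.symm hcB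
      refine ⟨⟨l, hl⟩, Subtype.ext ?_⟩
      show mk (⟨l, hL hl⟩ : ↥H) = mk h
      refine QuotientGroup.eq.mpr ?_
      show l⁻¹ * (h : G) ∈ B
      rw [hdec, inv_mul_cancel_left]
      exact hb
  let ιe : ↥(L1 z Q B) ≃* ↥C := MulEquiv.ofBijective ι hιbij
  obtain ⟨π, hπ, hπk⟩ := M.quot1
  let π' : ↥C →* A₅ := π.comp ιe.symm.toMonoidHom
  have hπ' : Function.Surjective π' := hπ.comp ιe.symm.surjective
  set Qx := π'.ker with hQx
  let eQ : ↥(Q1 Q B) ≃* ↥Qx :=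
    MulEquiv.ofBijective
      ((ιe.toMonoidHom.comp (Subgroup.inclusion M.toHyp.Q1_le_L1)).codRestrict Qx fun q => by
        rw [hQx, MonoidHom.mem_ker]
        show π (ιe.symm (ιe _)) = 1
        rw [ιe.symm_apply_apply, hπk]
        exact M.toHyp.le1 q.2)
      ⟨fun a b h => Subgroup.inclusion_injective _ (ιe.injective (congrArg Subtype.val h)), fun x => by
        have hx : π (ιe.symm x.1) = 1 := x.2
        refine ⟨⟨(ιe.symm x.1).1, M.toHyp.L1_inf_Q (ιe.symm x.1).2 ((hπk _).mp hx)⟩, Subtype.ext ?_⟩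
        show ιe (ιe.symm x.1) = x.1
        exact ιe.apply_symm_apply _⟩
  have hcard : Nat.card Qx = 32 := (Nat.card_congr eQ.symm.toEquiv).trans M.card1
  have hQext : Cfsg.IsExtraspecial 2 Qx := isExtraspecial_congr eQ M.ex1
  have h2c : Subgroup.centralizer (Qx : Set ↥C) ≤ Qx := by
    intro c hc
    obtain ⟨l, rfl⟩ := ιe.surjective c
    have h1 : ∀ q ∈ Q1 Q B, q * (l : G) = l * q := fun q hq => by
      have h := Subgroup.mem_centralizer_iff.mp hc _ (eQ ⟨q, hq⟩).2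
      have h' : ιe (Subgroup.inclusion M.toHyp.Q1_le_L1 ⟨q, hq⟩ * l) =
          ιe (l * Subgroup.inclusion M.toHyp.Q1_le_L1 ⟨q, hq⟩) := by rw [map_mul, map_mul]; exact h
      exact congrArg Subtype.val (ιe.injective h')
    rw [hQx, MonoidHom.mem_ker]
    show π (ιe.symm (ιe l)) = 1
    rw [ιe.symm_apply_apply, hπk]
    rcases M.toHyp.cQ_eq h1 (mem_L1.mp l.2).2 with e | e <;> rw [e]
    exacts [one_mem _, M.st.z_mem]
  let eA : ↥C ⧸ Qx ≃* A₅ := QuotientGroup.quotientKerEquivOfSurjective π' hπ'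
  obtain ⟨ω⟩ := J2Type.omega_equiv_alt5
  have hF := J2Uniq.gfs_eq Qx hcard h2c eA
  obtain ⟨hcov, hQz, hK⟩ := J2Type.exists_hyp_aux zb hzord C
    (fun _ => Subgroup.mem_centralizer_singleton_iff) Qx hF hQext (by rw [hcard]; norm_num) (eA.trans ω.symm)
  have hz'L : z' ∈ L1 z Q B := M.toHyp.Q1_le_L1 M.mem1
  have hnwc : ∃ x : ↥H ⧸ N, (∃ hq : x * zb * x⁻¹ ∈ C, (⟨x * zb * x⁻¹, hq⟩ : ↥C) ∈ Qx) ∧ x * zb * x⁻¹ ≠ zb := by
    have e : mk ⟨g, hg⟩ * zb * (mk ⟨g, hg⟩)⁻¹ = (ι ⟨_, hz'L⟩ : ↥H ⧸ N) := by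
      rw [hιv, hzb, ← map_inv, ← map_mul, ← map_mul]
      rfl
    refine ⟨mk ⟨g, hg⟩, ⟨e ▸ (ι ⟨_, hz'L⟩).2, ?_⟩, fun h => M.ne ?_⟩
    · rw [show (⟨mk ⟨g, hg⟩ * zb * (mk ⟨g, hg⟩)⁻¹, e ▸ (ι ⟨_, hz'L⟩).2⟩ : ↥C) = ι ⟨_, hz'L⟩ from
        Subtype.ext e]
      exact (eQ ⟨_, M.mem1⟩).2
    · have h1 : ι ⟨_, hz'L⟩ = ι ⟨z, hzL⟩ := Subtype.ext (e.symm.trans h)
      exact congrArg Subtype.val (hιbij.1 h1)
  obtain ⟨y, hy, hyy, hyQ⟩ := M.exists_invol
  have hy1 : y ≠ 1 := fun h => hyQ (h ▸ one_mem Q)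
  have hyord : orderOf (ι ⟨y, hy⟩ : ↥H ⧸ N) = 2 := by
    refine orderOf_eq_prime ?_ fun h => hy1 ?_
    · rw [pow_two, ← Subgroup.coe_mul, ← map_mul, show (⟨y, hy⟩ : ↥(L1 z Q B)) * ⟨y, hy⟩ = 1 from Subtype.ext hyy,
        map_one]
      rfl
    · exact congrArg Subtype.val (hιbij.1 ((Subtype.ext h : ι ⟨y, hy⟩ = 1).trans (map_one ι).symm))
  have hyQx : (ι ⟨y, hy⟩ : ↥H ⧸ N) ∉ Qx.map C.subtype := by
    rintro ⟨c, hc, hce⟩
    rw [show c = ι ⟨y, hy⟩ from Subtype.ext hce] at hc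
    have h1 : π (ιe.symm (ιe ⟨y, hy⟩)) = 1 := hc
    rw [ιe.symm_apply_apply, hπk] at h1
    exact hyQ h1
  refine ⟨?_, zb, hzord, Qx, inferInstance, hF, hQext, by rw [hcard]; norm_num, ⟨eA.trans ω.symm⟩, hnwc⟩
  obtain ⟨K, hcore⟩ := hK _ (ι ⟨y, hy⟩).2 hyord hyQx
  refine J2Uniq.iso_of_hyp (K := K) ⟨hcore, hQz hnwc, ⟨_, (ι ⟨y, hy⟩).2, hyord, hyQx, fun hcon => ?_⟩, hcov⟩
  obtain ⟨x, hx⟩ := isConj_iff.mp hcon
  obtain ⟨h, rfl⟩ := QuotientGroup.mk'_surjective N x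
  rw [hιv, hzb] at hx
  change mk h * mk _ * (mk h)⁻¹ = mk _ at hx
  rw [← map_inv, ← map_mul, ← map_mul] at hx
  obtain ⟨n, hn, e⟩ := hmk _ _ hx
  have e' : z = (h : G) * y * (h : G)⁻¹ * n := e
  have hcn : Commute ((h : G) * y * (h : G)⁻¹) n :=
    (show Commute n _ from hB (mul_mem (mul_mem h.2 (hL hy)) (inv_mem h.2)) n hn).symm
  have hnn : n = 1 := by
    refine M.toHyp.b_eq_one hn ?_
    have h1 := M.st.zz
    rw [e', show (h : G) * y * (h : G)⁻¹ * n * ((h : G) * y * (h : G)⁻¹ * n) =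
      (h : G) * y * (h : G)⁻¹ * (n * ((h : G) * y * (h : G)⁻¹)) * n by group, ← hcn.eq,
      show (h : G) * y * (h : G)⁻¹ * ((h : G) * y * (h : G)⁻¹ * n) * n = (h : G) * (y * y) * (h : G)⁻¹ * (n * n) by group,
      hyy] at h1
    simpa using h1
  rw [hnn, mul_one] at e'
  refine M.toTop.not_conj hy hyy hyQ (h : G)⁻¹ (fun b hb => hB (inv_mem h.2) b hb) ?_
  rw [e']; group

theorem isoJ2_quot (H : Subgroup G) (hL : L1 z Q B ≤ H) (hg : g ∈ H)
    (hH : H ≤ Subgroup.centralizer (B : Set G)) [(B.subgroupOf H).Normal] :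
    Cfsg.Spor.IsoJ2 (↥H ⧸ B.subgroupOf H) := (M.quot_data H hL hg hH).1

theorem normal_sub (H : Subgroup G) (hH : H ≤ Subgroup.centralizer (B : Set G)) : (B.subgroupOf H).Normal := by
  refine ⟨fun n hn x => ?_⟩
  have h1 : (n : G) * x = x * n := Subgroup.mem_centralizer_iff.mp (hH x.2) n hn
  show ((x * n * x⁻¹ : ↥H) : G) ∈ B
  rw [show ((x * n * x⁻¹ : ↥H) : G) = (x : G) * n * (x : G)⁻¹ from rfl, conj_eq_self h1.symm]
  exact hn

theorem isoJ2_Y : Cfsg.Spor.IsoJ2 ↥Y₀ := by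
  haveI := M.normal_sub Y₀ M.Y_le_CB
  obtain ⟨e⟩ := M.isoJ2_quot Y₀ le_sup_left M.g_mem M.Y_le_CB
  have hbot : B.subgroupOf Y₀ = ⊥ :=
    eq_bot_iff.mpr fun x hx => Subgroup.mem_bot.mpr (Subtype.ext (M.B_inf_Y hx x.2))
  exact ⟨(QuotientGroup.quotientBot.symm.trans (QuotientGroup.quotientMulEquivOfEq hbot).symm).trans e⟩

theorem simple_Y : IsSimpleGroup ↥Y₀ := by
  obtain ⟨e⟩ := M.isoJ2_Y
  haveI := CfsgLib.J2.simple_J2
  haveI : Nontrivial ↥Y₀ := e.toEquiv.nontrivial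
  exact MulEquiv.isSimpleGroup e

theorem center_Y {x : G} (hx : x ∈ Y₀) (h : ∀ y ∈ Y₀, x * y = y * x) : x = 1 := by
  haveI := M.simple_Y
  have hc : (⟨x, hx⟩ : ↥Y₀) ∈ Subgroup.center ↥Y₀ :=
    Subgroup.mem_center_iff.mpr fun y => Subtype.ext (h y y.2).symm
  rcases (inferInstance : (Subgroup.center ↥Y₀).Normal).eq_bot_or_eq_top with hb | ht
  · rw [hb, Subgroup.mem_bot] at hc
    exact congrArg Subtype.val hc
  · exfalso
    obtain ⟨e⟩ := M.isoJ2_Y
    obtain ⟨a, b, hab⟩ := CfsgLib.J2.not_comm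
    refine hab (e.symm.injective ?_)
    rw [map_mul, map_mul]
    exact (Subgroup.mem_center_iff.mp (ht.ge (Subgroup.mem_top (e.symm a))) (e.symm b)).symm

theorem CB_decomp {c : G} (hc : c ∈ Subgroup.centralizer (B : Set G)) : ∃ y ∈ Y₀, ∃ b ∈ B, c = y * b := by
  set CB := Subgroup.centralizer (B : Set G) with hCB
  haveI := M.normal_sub CB le_rfl
  obtain ⟨e⟩ := M.isoJ2_quot CB M.L1_le_CB (M.Y_le_CB M.g_mem) le_rfl
  have hBC : B ≤ CB := fun b hb => Subgroup.mem_centralizer_iff.mpr fun b' hb' =>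
    comm_five M.cardB hb' hb
  have hcard : Nat.card ↥CB = Nat.card ↥Y₀ * Nat.card ↥B := by
    obtain ⟨eY⟩ := M.isoJ2_Y
    rw [Subgroup.card_eq_card_quotient_mul_card_subgroup (B.subgroupOf CB), Nat.card_congr e.toEquiv,
      Nat.card_congr (Subgroup.subgroupOfEquivOfLe hBC).toEquiv, Nat.card_congr eY.toEquiv]
  let f : ↥Y₀ × ↥B → ↥CB := fun p => ⟨p.1 * p.2, mul_mem (M.Y_le_CB p.1.2) (hBC p.2.2)⟩
  have hf : Function.Bijective f := (Nat.bijective_iff_injective_and_card f).2 ⟨fun p r h => by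
      have h1 : (p.1 : G) * p.2 = r.1 * r.2 := congrArg Subtype.val h
      have h2 : (r.1 : G)⁻¹ * p.1 = r.2 * (p.2 : G)⁻¹ := by
        rw [inv_mul_eq_iff_eq_mul, ← mul_assoc, ← h1, mul_inv_cancel_right]
      have h3 := M.B_inf_Y (h2 ▸ mul_mem r.2.2 (inv_mem p.2.2)) (mul_mem (inv_mem r.1.2) p.1.2)
      have h4 := inv_mul_eq_one.mp h3
      rw [h4] at h1
      exact Prod.ext (Subtype.ext h4.symm) (Subtype.ext (mul_left_cancel h1)),
    by rw [Nat.card_prod, hcard]⟩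
  obtain ⟨p, hp⟩ := hf.2 ⟨c, hc⟩
  exact ⟨p.1, p.1.2, p.2, p.2.2, (congrArg Subtype.val hp).symm⟩

theorem layer_eq : Cfsg.layer ↥(Subgroup.centralizer (B : Set G)) =
    (Y₀).subgroupOf (Subgroup.centralizer (B : Set G)) := by
  set CB := Subgroup.centralizer (B : Set G) with hCB
  set Y1 := (Y₀).subgroupOf CB with hY1
  haveI hnY : Y1.Normal := ⟨fun n hn x => by
    obtain ⟨y, hy, b, hb, hx⟩ := M.CB_decomp x.2
    show (x : G) * n * (x : G)⁻¹ ∈ Y₀
    have hbn : Commute b (n : G) := Subgroup.mem_centralizer_iff.mp n.2 b hb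
    rw [hx, show y * b * (n : G) * (y * b)⁻¹ = y * (b * n * b⁻¹) * y⁻¹ by group, conj_eq_self hbn.eq]
    exact mul_mem (mul_mem hy hn) (inv_mem hy)⟩
  have hqs : Cfsg.IsQuasisimple ↥Y1 := by
    haveI := M.simple_Y
    refine Layer.isQuasisimple_of_mulEquiv (Subgroup.subgroupOfEquivOfLe M.Y_le_CB).symm ⟨?_, ?_⟩
    · rw [Group.isPerfect_def]
      refine ((inferInstance : (commutator ↥Y₀).Normal).eq_bot_or_eq_top).resolve_left fun h => ?_
      have hall : ∀ x : ↥Y₀, x = 1 := fun x => Subtype.ext (M.center_Y x.2 fun y hy => by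
        have h1 : ⁅x, (⟨y, hy⟩ : ↥Y₀)⁆ ∈ commutator ↥Y₀ :=
          Subgroup.commutator_mem_commutator (Subgroup.mem_top _) (Subgroup.mem_top _)
        rw [h, Subgroup.mem_bot, commutatorElement_eq_one_iff_mul_comm] at h1
        exact congrArg Subtype.val h1)
      obtain ⟨a, b, hab⟩ := exists_pair_ne ↥Y₀
      exact hab ((hall a).trans (hall b).symm)
    · have hcb : Subgroup.center ↥Y₀ = ⊥ := eq_bot_iff.mpr fun x hx => Subgroup.mem_bot.mpr
        (Subtype.ext (M.center_Y x.2 fun y hy =>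
          (congrArg Subtype.val (Subgroup.mem_center_iff.mp hx ⟨y, hy⟩)).symm))
      let e := (QuotientGroup.quotientMulEquivOfEq hcb).trans QuotientGroup.quotientBot
      haveI : Nontrivial (↥Y₀ ⧸ Subgroup.center ↥Y₀) := e.toEquiv.nontrivial
      exact MulEquiv.isSimpleGroup e
  have hcomp : Cfsg.IsComponent Y1 := ⟨hnY.isSubnormal, hqs⟩
  refine le_antisymm (sSup_le fun K hK => ?_) (Layer.isComponent_le_layer hcomp)
  by_contra hne
  have hKY : K ≠ Y1 := fun h => hne h.le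
  have hcom := Layer.commutator_eq_bot_of_ne hK hcomp hKY
  have hKB : ∀ k ∈ K, (k : G) ∈ B := by
    intro k hk
    obtain ⟨y, hy, b, hb, hkd⟩ := M.CB_decomp k.2
    have hy1 : y = 1 := M.center_Y hy fun y' hy' => by
      have h1 : ⁅k, (⟨y', M.Y_le_CB hy'⟩ : ↥CB)⁆ = 1 := by
        rw [← Subgroup.mem_bot, ← hcom]
        exact Subgroup.commutator_mem_commutator hk hy'
      rw [commutatorElement_eq_one_iff_mul_comm] at h1
      have h2 : (k : G) * y' = y' * k := congrArg Subtype.val h1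
      have hby : Commute b y' := Subgroup.mem_centralizer_iff.mp (M.Y_le_CB hy') b hb
      rw [hkd, mul_assoc, hby.eq, ← mul_assoc, ← mul_assoc] at h2
      exact mul_right_cancel h2
    rw [hkd, hy1, one_mul]; exact hb
  refine Layer.not_isSolvable_of_isComponent hK (Group.isSolvable_of_comm fun a b => Subtype.ext (Subtype.ext ?_))
  exact Subgroup.mem_centralizer_iff.mp a.1.2 _ (hKB _ b.2) |>.symm

theorem centralizer_Y : Subgroup.centralizer ((Y₀ : Subgroup G) : Set G) = U₀ := by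
  obtain ⟨eU⟩ := M.exists_U
  refine le_antisymm (fun x hx => ?_) (fun u hu => Subgroup.mem_centralizer_iff.mpr fun y hy => (M.U_comm hu hy).symm)
  obtain ⟨π, -, hπk⟩ := M.quot2
  set D := Subgroup.centralizer ((Y₀ : Subgroup G) : Set G) with hD
  have hzY : z ∈ Y₀ := Subgroup.mem_sup_left (M.toHyp.Q1_le_L1 M.toHyp.z_mem1)
  have hDz : ∀ d ∈ D, d * z = z * d := fun d hd => (Subgroup.mem_centralizer_iff.mp hd z hzY).symm
  have hDL : D ≤ L2 z Q B := fun d hd => mem_L2.mpr ⟨hDz d hd, fun q hq =>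
    Subgroup.mem_centralizer_iff.mp hd q (Subgroup.mem_sup_left (M.toHyp.Q1_le_L1 hq))⟩
  have hUD : U₀ ≤ D := fun u hu => Subgroup.mem_centralizer_iff.mpr fun y hy => (M.U_comm hu hy).symm
  have hDQ : D ⊓ Q = ⊥ := by
    refine M.toHyp.inv_bot _ (fun d hd => mem_Q2.mpr ⟨hd.2, (mem_L2.mp (hDL hd.1)).2⟩)
      (fun b hb d hd => ?_) (fun hz => M.st.ne_one (M.center_Y hzY fun y hy =>
        (Subgroup.mem_centralizer_iff.mp hz.1 y hy).symm))
    refine Subgroup.mem_inf.mpr ⟨?_, M.toHyp.conj_memQ (M.toHyp.b_z hb) hd.2⟩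
    exact mul_mem (mul_mem (hUD (M.B_le_U hb)) hd.1) (inv_mem (hUD (M.B_le_U hb)))
  have hinj : Function.Injective (π.comp (Subgroup.inclusion hDL)) := by
    rw [injective_iff_map_eq_one]
    intro d hd
    have : (d : G) ∈ D ⊓ Q := ⟨d.2, (hπk _).mp hd⟩
    rw [hDQ, Subgroup.mem_bot] at this
    exact Subtype.ext this
  have hle := Nat.card_le_card_of_injective _ hinj
  have heq : Nat.card A₅ = Nat.card ↥U₀ := (Nat.card_congr eU.toEquiv).symm
  rw [heq] at hle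
  exact (Subgroup.eq_of_le_of_card_ge hUD hle).symm.le hx

end Mov

end CfsgLib.ConwayFive
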