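import Cfsg.Agent.Lib.ConwayFive.Basics
import Cfsg.Agent.Lib.Classical.InvolutionOmegaStd
import Cfsg.Agent.Lib.Classical.SymmOrth
import Mathlib.GroupTheory.SpecificGroups.Alternating

/-!
The isometries of the form `Q_4^- ⊥ Q_4^-` of dimension eight over the field with two elements.
-/

set_option autoImplicit false

namespace CfsgLib.ConwayFive

open CfsgLib.Extraspecial Module

/-- Coordinates of type `(-) ⊥ (-)`. -/
abbrev e8 : Fin 4 → ZMod 2 := ![0, 1, 0, 1]

/-- The first summand. -/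
def fs (v : Coord 4) : Coord 2 := ![v 0, v 1]

/-- The second summand. -/
def sn (v : Coord 4) : Coord 2 := ![v 2, v 3]

/-- Gluing. -/
def glue (u w : Coord 2) : Coord 4 := ![u 0, u 1, w 0, w 1]

theorem fs_glue (u w : Coord 2) : fs (glue u w) = u := by funext i; fin_cases i <;> rfl

theorem sn_glue (u w : Coord 2) : sn (glue u w) = w := by funext i; fin_cases i <;> rfl

theorem glue_fs_sn (v : Coord 4) : glue (fs v) (sn v) = v := by funext i; fin_cases i <;> rfl

theorem fs_add (v w : Coord 4) : fs (v + w) = fs v + fs w := by funext i; fin_cases i <;> rfl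

theorem sn_add (v w : Coord 4) : sn (v + w) = sn v + sn w := by funext i; fin_cases i <;> rfl

theorem glue_add (a b c d : Coord 2) : glue (a + c) (b + d) = glue a b + glue c d := by
  funext i; fin_cases i <;> rfl

theorem glue_zero : glue 0 0 = 0 := by funext i; fin_cases i <;> rfl

theorem fs_smul (c : ZMod 2) (v : Coord 4) : fs (c • v) = c • fs v := by funext i; fin_cases i <;> rfl

theorem sn_smul (c : ZMod 2) (v : Coord 4) : sn (c • v) = c • sn v := by funext i; fin_cases i <;> rfl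

theorem glue_smul (c : ZMod 2) (a b : Coord 2) : glue (c • a) (c • b) = c • glue a b := by
  funext i; fin_cases i <;> rfl

theorem cocycle_split (v w : Coord 4) :
    cocycle e8 v w = cocycle e4 (fs v) (fs w) + cocycle e4 (sn v) (sn w) := by
  simp only [cocycle, Fin.sum_univ_four, Fin.sum_univ_two, fs, sn, planeForm, e8, e4]
  simp
  ring

theorem sq_split (v : Coord 4) : sqForm e8 v = sqForm e4 (fs v) + sqForm e4 (sn v) := cocycle_split v v

/-- A linear map of the first summand, extended by the identity. -/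
def ext1 : (Coord 2 ≃ₗ[ZMod 2] Coord 2) →* (Coord 4 ≃ₗ[ZMod 2] Coord 4) where
  toFun φ :=
    { toFun := fun v => glue (φ (fs v)) (sn v)
      invFun := fun v => glue (φ.symm (fs v)) (sn v)
      map_add' := fun a b => by rw [fs_add, map_add, sn_add, glue_add]
      map_smul' := fun c a => by rw [fs_smul, map_smul, sn_smul, glue_smul]; rfl
      left_inv := fun v => by
        show glue (φ.symm (fs (glue _ _))) (sn (glue _ _)) = v
        rw [fs_glue, sn_glue, LinearEquiv.symm_apply_apply, glue_fs_sn]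
      right_inv := fun v => by
        show glue (φ (fs (glue _ _))) (sn (glue _ _)) = v
        rw [fs_glue, sn_glue, LinearEquiv.apply_symm_apply, glue_fs_sn] }
  map_one' := LinearEquiv.ext fun v => glue_fs_sn v
  map_mul' φ ψ := LinearEquiv.ext fun v => by
    show glue (φ (ψ (fs v))) (sn v) = glue (φ (fs (glue _ _))) (sn (glue _ _))
    rw [fs_glue, sn_glue]

/-- A linear map of the second summand, extended by the identity. -/
def ext2 : (Coord 2 ≃ₗ[ZMod 2] Coord 2) →* (Coord 4 ≃ₗ[ZMod 2] Coord 4) where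
  toFun φ :=
    { toFun := fun v => glue (fs v) (φ (sn v))
      invFun := fun v => glue (fs v) (φ.symm (sn v))
      map_add' := fun a b => by rw [fs_add, sn_add, map_add, glue_add]
      map_smul' := fun c a => by rw [fs_smul, sn_smul, map_smul, glue_smul]; rfl
      left_inv := fun v => by
        show glue (fs (glue _ _)) (φ.symm (sn (glue _ _))) = v
        rw [fs_glue, sn_glue, LinearEquiv.symm_apply_apply, glue_fs_sn]
      right_inv := fun v => by
        show glue (fs (glue _ _)) (φ (sn (glue _ _))) = v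
        rw [fs_glue, sn_glue, LinearEquiv.apply_symm_apply, glue_fs_sn] }
  map_one' := LinearEquiv.ext fun v => glue_fs_sn v
  map_mul' φ ψ := LinearEquiv.ext fun v => by
    show glue (fs v) (φ (ψ (sn v))) = glue (fs (glue _ _)) (φ (sn (glue _ _)))
    rw [fs_glue, sn_glue]

/-- The embedding of the first orthogonal group. -/
def j1 : isoGrp e4 →* isoGrp e8 :=
  (ext1.comp (isoGrp e4).subtype).codRestrict _ fun φ v => by
    show sqForm e8 (glue (φ.1 (fs v)) (sn v)) = sqForm e8 v
    rw [sq_split, sq_split v, fs_glue, sn_glue, φ.2]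

/-- The embedding of the second orthogonal group. -/
def j2 : isoGrp e4 →* isoGrp e8 :=
  (ext2.comp (isoGrp e4).subtype).codRestrict _ fun φ v => by
    show sqForm e8 (glue (fs v) (φ.1 (sn v))) = sqForm e8 v
    rw [sq_split, sq_split v, fs_glue, sn_glue, φ.2]

theorem j1_apply (φ : isoGrp e4) (v : Coord 4) : (j1 φ).1 v = glue (φ.1 (fs v)) (sn v) := rfl

theorem j2_apply (φ : isoGrp e4) (v : Coord 4) : (j2 φ).1 v = glue (fs v) (φ.1 (sn v)) := rfl

theorem j1_injective : Function.Injective j1 := fun φ ψ h => Subtype.ext (LinearEquiv.ext fun u => by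
  have := congrArg (fun x : isoGrp e8 => fs (x.1 (glue u 0))) h
  simpa only [j1_apply, fs_glue, sn_glue] using this)

theorem j2_injective : Function.Injective j2 := fun φ ψ h => Subtype.ext (LinearEquiv.ext fun u => by
  have := congrArg (fun x : isoGrp e8 => sn (x.1 (glue 0 u))) h
  simpa only [j2_apply, fs_glue, sn_glue] using this)

/-- Hyperbolic coordinates. -/
def toFun8 : Coord 4 ≃ₗ[ZMod 2] (Fin 4 ⊕ Fin 4 → ZMod 2) where
  toFun v := Sum.elim
    ![(v 0).1, (v 2).1, (v 1).1 + (v 3).2,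
      (v 3).2 + ((v 3).1 + ((v 1).1 + (v 3).2) + ((v 1).2 + (v 3).2))]
    ![(v 0).2, (v 2).2, (v 1).2 + (v 3).2, (v 3).1 + ((v 1).1 + (v 3).2) + ((v 1).2 + (v 3).2)]
  invFun u := ![(u (.inl 0), u (.inr 0)),
    (u (.inl 2) + (u (.inl 3) + u (.inr 3)), u (.inr 2) + (u (.inl 3) + u (.inr 3))),
    (u (.inl 1), u (.inr 1)),
    (u (.inl 2) + u (.inr 2) + u (.inr 3), u (.inl 3) + u (.inr 3))]
  map_add' a b := by funext i; rcases i with i | i <;> fin_cases i <;> simp <;> ring
  map_smul' c a := by funext i; rcases i with i | i <;> fin_cases i <;> simp <;> ring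
  left_inv v := by
    have h : ∀ a b : ZMod 2, a + (a + b) = b ∧ a + b + b = a ∧ b + a + b = a := by decide
    funext i
    fin_cases i <;> refine Prod.ext ?_ ?_ <;> simp <;> revert h <;>
      generalize (v 1).1 = p <;> generalize (v 1).2 = q <;> generalize (v 3).1 = r <;>
      generalize (v 3).2 = s <;> revert p q r s <;> decide
  right_inv u := by
    funext i
    rcases i with i | i <;> fin_cases i <;> simp <;>
      generalize u (.inl 2) = p <;> generalize u (.inr 2) = q <;> generalize u (.inl 3) = r <;>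
      generalize u (.inr 3) = s <;> revert p q r s <;> decide

/-- Decoding. -/
def dec8 (k : Fin 256) : Coord 4 :=
  ![(cond (k.1.testBit 0) 1 0, cond (k.1.testBit 1) 1 0), (cond (k.1.testBit 2) 1 0, cond (k.1.testBit 3) 1 0),
    (cond (k.1.testBit 4) 1 0, cond (k.1.testBit 5) 1 0), (cond (k.1.testBit 6) 1 0, cond (k.1.testBit 7) 1 0)]

set_option synthInstance.maxSize 2048 in
theorem dec8_surj (v : Coord 4) : ∃ k, dec8 k = v := by
  have hbit : ∀ a : ZMod 2, ∃ b : Bool, cond b 1 0 = a := by decide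
  have hk : ∀ a b c d e f g h : Bool, ∃ k : Fin 256, k.1.testBit 0 = a ∧ k.1.testBit 1 = b ∧
      k.1.testBit 2 = c ∧ k.1.testBit 3 = d ∧ k.1.testBit 4 = e ∧ k.1.testBit 5 = f ∧
      k.1.testBit 6 = g ∧ k.1.testBit 7 = h := by decide +kernel
  obtain ⟨a, ha⟩ := hbit (v 0).1
  obtain ⟨b, hb⟩ := hbit (v 0).2
  obtain ⟨c, hc⟩ := hbit (v 1).1
  obtain ⟨d, hd⟩ := hbit (v 1).2
  obtain ⟨e, he⟩ := hbit (v 2).1
  obtain ⟨f, hf⟩ := hbit (v 2).2
  obtain ⟨g, hg⟩ := hbit (v 3).1
  obtain ⟨h, hh⟩ := hbit (v 3).2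
  obtain ⟨k, k0, k1, k2, k3, k4, k5, k6, k7⟩ := hk a b c d e f g h
  refine ⟨k, funext fun i => ?_⟩
  fin_cases i <;> simp [dec8, k0, k1, k2, k3, k4, k5, k6, k7, ha, hb, hc, hd, he, hf, hg, hh]

theorem toFun8_form (v : Coord 4) : Cfsg.quadFormPlus 4 (ZMod 2) (toFun8 v) = sqForm e8 v := by
  have h : ∀ k : Fin 256, Cfsg.quadFormPlus 4 (ZMod 2) (toFun8 (dec8 k)) = sqForm e8 (dec8 k) := by
    unfold Cfsg.quadFormPlus
    decide +kernel
  obtain ⟨k, rfl⟩ := dec8_surj v
  exact h k

/-- The polar form. -/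
def pol (v w : Coord 4) : ZMod 2 := cocycle e8 v w + cocycle e8 w v

theorem sq_add (v w : Coord 4) : sqForm e8 (v + w) = sqForm e8 v + sqForm e8 w + pol v w := by
  simp only [sqForm, pol, cocycle_add_left, cocycle_add_right]
  ring

/-- Transitivity: a helper vector. -/
theorem exists_step (v : Coord 4) (hv : sqForm e8 v = 0) (h0 : v ≠ 0) (hs : v ≠ dec8 1) :
    ∃ b, sqForm e8 b = 1 ∧ pol b (dec8 1) = 1 ∧ pol v (dec8 1 + b) = 1 := by
  have h : ∀ k : Fin 256, sqForm e8 (dec8 k) = 0 → k = 0 ∨ k = 1 ∨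
      ∃ b : Fin 256, sqForm e8 (dec8 b) = 1 ∧ pol (dec8 b) (dec8 1) = 1 ∧
        pol (dec8 k) (dec8 1 + dec8 b) = 1 := by decide +kernel
  obtain ⟨k, rfl⟩ := dec8_surj v
  rcases h k hv with rfl | rfl | ⟨b, hb⟩
  · exact absurd (by decide +kernel : dec8 0 = 0) h0
  · exact absurd rfl hs
  · exact ⟨dec8 b, hb⟩

theorem dec8_one : sqForm e8 (dec8 1) = 0 ∧ dec8 1 ≠ 0 := by decide +kernel

/-- Coordinates of the form of dimension four. -/
def toFun4 : Coord 2 ≃ₗ[ZMod 2] ((Fin 1 ⊕ Fin 1) ⊕ Fin 2 → ZMod 2) where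
  toFun w := Sum.elim (Sum.elim ![(w 0).1] ![(w 0).2]) ![(w 1).1, (w 1).2]
  invFun u := ![(u (.inl (.inl 0)), u (.inl (.inr 0))), (u (.inr 0), u (.inr 1))]
  map_add' a b := by funext i; rcases i with (i | i) | i <;> fin_cases i <;> rfl
  map_smul' c a := by funext i; rcases i with (i | i) | i <;> fin_cases i <;> rfl
  left_inv w := by funext i; fin_cases i <;> rfl
  right_inv u := by funext i; rcases i with (i | i) | i <;> fin_cases i <;> rfl

theorem toFun4_form : ∀ w, Cfsg.quadFormMinus 1 (ZMod 2) 1 1 (toFun4 w) = sqForm e4 w := by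
  unfold Cfsg.quadFormMinus
  decide +kernel

theorem iso4_perm : Nonempty (isoGrp e4 ≃* Equiv.Perm (Fin 5)) := by
  obtain ⟨p⟩ := CfsgLib.Classical.SymmOrth.minus_four
  exact ⟨(isoGrpEquiv e4 _ toFun4 toFun4_form).trans p⟩

/-- The swap of a hyperbolic plane. -/
def swap4 : isoGrp e4 :=
  ⟨{ toFun := fun w => ![((w 0).2, (w 0).1), w 1]
     invFun := fun w => ![((w 0).2, (w 0).1), w 1]
     map_add' := fun a b => by funext i; fin_cases i <;> rfl
     map_smul' := fun c a => by funext i; fin_cases i <;> rfl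
     left_inv := fun w => by funext i; fin_cases i <;> rfl
     right_inv := fun w => by funext i; fin_cases i <;> rfl }, by
    intro w
    simp [sqForm, cocycle, planeForm, Fin.sum_univ_two, mul_comm]⟩

/-- What is needed from the isometry group of dimension eight. -/
structure Iso8 (d : isoGrp e8 →* ℤˣ) : Prop where
  index : d.ker.index = 2
  card : Nat.card d.ker = Nat.card (Cfsg.Omega (ZMod 2) (Cfsg.quadFormPlus 4 (ZMod 2)))
  comm_le : d.ker ≤ commutator (isoGrp e8)
  odd1 : d (j1 swap4) = -1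
  odd2 : d (j2 swap4) = -1
  refl : ∀ a, sqForm e8 a = 1 → ∃ r : isoGrp e8, d r = -1 ∧ ∀ x, r.1 x = x + pol a x • a

theorem exists_iso8 : ∃ d : isoGrp e8 →* ℤˣ, Iso8 d := by
  obtain ⟨B, hB, hBn⟩ := CfsgLib.Orth.exists_quadForm_plus (F := ZMod 2) 4
  have hΩ := CfsgLib.Classical.InvolutionOmegaStd.omega_plus_eq_ker hBn (by norm_num) (Or.inr (by norm_num))
  let Φ : isoGrp e8 ≃* CfsgLib.Orth.Grp B :=
    isoGrpEquiv e8 ⇑B toFun8 (fun w => by rw [hB]; exact toFun8_form w)
  have hΦ : ∀ (ψ : isoGrp e8) (u : Fin 4 ⊕ Fin 4 → ZMod 2),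
      CfsgLib.Orth.ap (Φ ψ) u = toFun8 (ψ.1 (toFun8.symm u)) := by
    intro ψ u
    show (LinearMap.toMatrix' _).mulVec u = _
    rw [← Matrix.toLin'_apply, Matrix.toLin'_toMatrix']
    rfl
  let d := (CfsgLib.Orth.dickson hBn).comp Φ.toMonoidHom
  obtain ⟨v, hv⟩ := CfsgLib.Orth.exists_aniso hBn (by simp)
  obtain ⟨r, hr⟩ := CfsgLib.Orth.exists_refl hBn hv
  have hsurj : Function.Surjective (CfsgLib.Orth.dickson hBn) := fun w => by
    rcases Int.units_eq_one_or w with rfl | rfl
    · exact ⟨1, map_one _⟩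
    · exact ⟨r, CfsgLib.Orth.dickson_refl hBn hr⟩
  have hker : (CfsgLib.Orth.dickson hBn).ker.index = 2 := by
    rw [Subgroup.index_ker, MonoidHom.range_eq_top.2 hsurj, Subgroup.card_top, Nat.card_eq_fintype_card]
    rfl
  have hk : d.ker = (CfsgLib.Orth.dickson hBn).ker.comap Φ.toMonoidHom := rfl
  have hrefl : ∀ a, sqForm e8 a = 1 → ∃ r : isoGrp e8, d r = -1 ∧ ∀ x, r.1 x = x + pol a x • a := by
    intro a ha
    have hBa : B (toFun8 a) = 1 := by rw [hB, toFun8_form]; exact ha
    obtain ⟨r, hr⟩ := CfsgLib.Orth.exists_refl hBn (v := toFun8 a) (by rw [hBa]; decide)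
    obtain ⟨ψ, rfl⟩ := Φ.surjective r
    refine ⟨ψ, CfsgLib.Orth.dickson_refl hBn hr, fun x => toFun8.injective ?_⟩
    have h := hr.2 (toFun8 x)
    rw [hΦ, toFun8.symm_apply_apply, hBa, inv_one, one_mul] at h
    have hp : QuadraticMap.polar (⇑B) (toFun8 a) (toFun8 x) = pol a x := by
      rw [QuadraticMap.polar, ← map_add, hB, toFun8_form, toFun8_form, toFun8_form, sq_add]
      ring
    rw [h, map_add, map_smul, ← hp]
    exact (ZModModule.sub_eq_add _ _)
  refine ⟨d, ⟨?_, ?_, ?_, ?_, ?_, hrefl⟩⟩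
  · rw [hk, Subgroup.index_comap_of_surjective _ Φ.surjective]; exact hker
  · rw [← hB, hΩ]
    exact Nat.card_congr (Φ.toEquiv.subtypeEquiv fun x => Iff.rfl)
  · intro x hx
    have h1 : Φ x ∈ (CfsgLib.Orth.dickson hBn).ker := hx
    rw [← hΩ] at h1
    have h2 : (commutator (isoGrp e8)).map Φ.toMonoidHom = Cfsg.Omega (ZMod 2) ⇑B := by
      rw [commutator_def, Subgroup.map_commutator, Subgroup.map_top_of_surjective Φ.toMonoidHom Φ.surjective]
      rfl
    rw [← h2] at h1
    obtain ⟨y, hy, hyx⟩ := h1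
    rwa [← Φ.injective hyx]
  · obtain ⟨r, hr, hr'⟩ := hrefl (glue ![(1, 1), (0, 0)] 0) (by decide +kernel)
    rw [show j1 swap4 = r from Subtype.ext (LinearEquiv.ext fun x => ?_), hr]
    rw [hr']
    obtain ⟨k, rfl⟩ := dec8_surj x
    revert k
    decide +kernel
  · obtain ⟨r, hr, hr'⟩ := hrefl (glue 0 ![(1, 1), (0, 0)]) (by decide +kernel)
    rw [show j2 swap4 = r from Subtype.ext (LinearEquiv.ext fun x => ?_), hr]
    rw [hr']
    obtain ⟨k, rfl⟩ := dec8_surj x
    revert k
    decide +kernel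

end CfsgLib.ConwayFive
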