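import Cfsg.Agent.Lib.ConwayFive.Fusion

/-!
Two conjugates `z`, `z'` inside the centraliser of `B`; an involution outside `Q` not conjugate to `z`;
the complement centralising both layers.
-/

set_option autoImplicit false

namespace CfsgLib.ConwayFive

open CfsgLib.Extraspecial

variable {G : Type*} [Group G] [Finite G] {z : G} {Q B : Subgroup G}

/-- The conjugate extraspecial group. -/
abbrev Qc (Q : Subgroup G) (g : G) : Subgroup G := Q.map (MulAut.conj g).toMonoidHom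

theorem mem_Qc {g x : G} : x ∈ Qc Q g ↔ g⁻¹ * x * g ∈ Q :=
  ⟨by rintro ⟨q, hq, rfl⟩; simpa [mul_assoc] using hq, fun hx => ⟨_, hx, by simp [mul_assoc]⟩⟩

/-- A mover in the centraliser of `B`. -/
structure Mov (z : G) (Q B : Subgroup G) (g : G) : Prop extends Top z Q B where
  gB : ∀ b ∈ B, b * g = g * b
  mem1 : g * z * g⁻¹ ∈ Q1 Q B
  ne : g * z * g⁻¹ ≠ z
  gen : g ∈ Q1 Q B ⊔ Q1 (Qc Q g) B

namespace Top

variable (H : Top z Q B)
include H

theorem exists_mov (hnwc : ∃ g : G, g * z * g⁻¹ ∈ Q ∧ g * z * g⁻¹ ≠ z) : ∃ g, Mov z Q B g := by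
  classical
  obtain ⟨k0, hk0, hk0z⟩ := hnwc
  obtain ⟨ψ⟩ := H.toHyp.exists_coord1
  set m : Model e4 := ⟨![(1, 0), (0, 0)], 0⟩ with hm
  set x := (ψ.symm m : G) with hxdef
  have hx : x ∈ Q1 Q B := (ψ.symm m).2
  have hxx : x * x = 1 := by
    have h : m * m = 1 := by rw [← pow_two, Model.sq_mem]; exact Model.ext rfl (by decide)
    have := congrArg (fun t => ((ψ.symm t : Q1 Q B) : G)) h
    simpa [hxdef, map_mul] using this
  have hx1 : x ≠ 1 := fun e => by
    have h : ψ.symm m = 1 := Subtype.ext e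
    rw [MulEquiv.map_eq_one_iff] at h
    exact absurd (congrFun (congrArg Model.v h) 0) (by rw [hm]; simp [Model.one_v])
  have hxz : x ≠ z := fun e => by
    have hc : ψ.symm m ∈ Subgroup.center ↥(Q1 Q B) := Subgroup.mem_center_iff.mpr fun q => Subtype.ext (by
      show (q : G) * x = x * q
      rw [e]; exact H.toHyp.q_z (H.toHyp.le1 q.2))
    have : m ∈ Subgroup.center (Model e4) := by
      rw [Subgroup.mem_center_iff]
      intro w
      have h := congrArg ψ (Subgroup.mem_center_iff.mp hc (ψ.symm w))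
      simpa using h
    exact absurd (congrFun ((Model.mem_center_iff _).mp this) 0) (by rw [hm]; simp)
  have hk0o : (k0 * z * k0⁻¹) * (k0 * z * k0⁻¹) = 1 := by
    rw [show k0 * z * k0⁻¹ * (k0 * z * k0⁻¹) = k0 * (z * z) * k0⁻¹ by group, H.st.zz]; group
  have hk01 : k0 * z * k0⁻¹ ≠ 1 := fun e => H.st.ne_one (conj_eq_one_iff.1 e)
  have hxconj : IsConj z x :=
    (isConj_iff.mpr ⟨k0, rfl⟩).trans (H.trans x (H.toHyp.le1 hx) hxx hx1 hxz _ hk0 hk0o hk01 hk0z).symm
  obtain ⟨k, hk⟩ := isConj_iff.mp hxconj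
  have P : Pair Q z k := ⟨H.st, hk ▸ H.toHyp.le1 hx, hk ▸ hxz, by rw [H.card]; norm_num⟩
  obtain ⟨u0, hu0, -, hu0z, -⟩ := P.exists_swap'
  rw [hk] at hu0z
  obtain ⟨u, hu, hux⟩ := H.toHyp.move1 hx hx1 hxz
  let S : Set G := {w | w ∈ Qc Q k ∧ w * z * w⁻¹ = z * x}
  have hbQ : ∀ b ∈ B, ∀ w ∈ Qc Q k, b * w * b⁻¹ ∈ Qc Q k := by
    intro b hb w hw
    have hbx : b * (k * z * k⁻¹) = (k * z * k⁻¹) * b := by rw [hk]; exact (mem_Q1.mp hx).2 b hb
    exact (Subgroup.mem_normalizer_iff.mp (P.s'.cz (Subgroup.mem_centralizer_singleton_iff.mpr hbx)) w).mp hw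
  have hS : ∀ b ∈ B, ∀ w ∈ S, b * w * b⁻¹ ∈ S := by
    rintro b hb w ⟨hw, hwz⟩
    refine ⟨hbQ b hb w hw, ?_⟩
    have h1 : b⁻¹ * z * b = z := by
      rw [mul_assoc, ← H.toHyp.b_z hb, inv_mul_cancel_left]
    calc b * w * b⁻¹ * z * (b * w * b⁻¹)⁻¹ = b * (w * (b⁻¹ * z * b) * w⁻¹) * b⁻¹ := by group
      _ = b * (z * x) * b⁻¹ := by rw [h1, hwz]
      _ = z * x := conj_eq_self ((show Commute b z from H.toHyp.b_z hb).mul_right ((mem_Q1.mp hx).2 b hb))
  let P' : Subgroup G := Qc Q k ⊓ Subgroup.centralizer ({z} : Set G)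
  have hcard : Nat.card S = Nat.card P' := Nat.card_congr
    { toFun := fun w => ⟨u0⁻¹ * w.1, Subgroup.mem_inf.mpr ⟨mul_mem (inv_mem hu0) w.2.1, by
        apply Subgroup.mem_centralizer_singleton_iff.mpr
        have h := w.2.2.trans hu0z.symm
        calc u0⁻¹ * w.1 * z = u0⁻¹ * (w.1 * z * w.1⁻¹) * w.1 := by group
          _ = u0⁻¹ * (u0 * z * u0⁻¹) * w.1 := by rw [h]
          _ = _ := by group⟩⟩
      invFun := fun p => ⟨u0 * p.1, mul_mem hu0 p.2.1, by
        rw [show u0 * p.1 * z * (u0 * p.1)⁻¹ = u0 * (p.1 * z * p.1⁻¹) * u0⁻¹ by group,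
          conj_eq_self (Subgroup.mem_centralizer_singleton_iff.mp p.2.2), hu0z]⟩
      left_inv := fun w => Subtype.ext (mul_inv_cancel_left u0 w.1)
      right_inv := fun p => Subtype.ext (inv_mul_cancel_left u0 p.1) }
  have h5 : ¬ 5 ∣ Nat.card S := by
    intro h
    rw [hcard] at h
    have := h.trans (Subgroup.card_dvd_of_le (show P' ≤ Qc Q k from inf_le_left))
    rw [← Nat.card_congr (Q.equivMapOfInjective _ (MulAut.conj k).injective).toEquiv, H.card] at this
    norm_num at this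
  obtain ⟨u', ⟨hu', hu'z⟩, hu'B⟩ := exists_fixed H.cardB S hS h5
  have hgz : u * u' * z * (u * u')⁻¹ = x := by
    rw [show u * u' * z * (u * u')⁻¹ = u * (u' * z * u'⁻¹) * u⁻¹ by group, hu'z,
      show u * (z * x) * u⁻¹ = (u * z * u⁻¹) * (u * x * u⁻¹) by group,
      conj_eq_self (H.toHyp.q_z (H.toHyp.le1 hu)), hux, ← mul_assoc, H.st.zz, one_mul]
  refine ⟨u * u', H, fun b hb => ?_, by rw [hgz]; exact hx, by rw [hgz]; exact hxz, ?_⟩
  · exact ((show Commute b u from (mem_Q1.mp hu).2 b hb).mul_right (hu'B b hb)).eq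
  · refine mul_mem (Subgroup.mem_sup_left hu) (Subgroup.mem_sup_right (mem_Q1.mpr ⟨?_, hu'B⟩))
    have := H.st.map_eq (hgz.trans hk.symm)
    show u' ∈ Q.map _
    rw [this]
    exact hu'

/-- Trivial action on a hyperplane forces membership of `Q`. -/
theorem trivial_action {s a : G} (hs : s ∈ Q1 Q B) (hs2 : s * s = 1) (hs1 : s ≠ 1) (hsz : s ≠ z)
    (ha : a ∈ L1 z Q B) (has : a * s = s * a)
    (h : ∀ r ∈ Q1 Q B, r * s = s * r → a * r * a⁻¹ = r ∨ a * r * a⁻¹ = z * r) : a ∈ Q := by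
  have haz := H.toHyp.L1_z ha
  obtain ⟨u, hu, hus⟩ := H.toHyp.move1 hs hs1 hsz
  set w := u⁻¹ * (a * u * a⁻¹) with hw
  have hw1 : w ∈ Q1 Q B := mul_mem (inv_mem hu) (H.toHyp.L1_norm1 ha hu)
  have hwr : ∀ r ∈ Q1 Q B, r * s = s * r → r * w = w * r := by
    intro r hr hrs
    have hzr : z * r = r * z := (H.toHyp.q_z (H.toHyp.le1 hr)).symm
    have hua : ∀ t, a * (t * z) * a⁻¹ = a * t * a⁻¹ * z := fun t => by
      rw [show a * (t * z) * a⁻¹ = a * t * a⁻¹ * (a * z * a⁻¹) by group, conj_eq_self haz]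
    have huz : u * z = z * u := H.toHyp.q_z (H.toHyp.le1 hu)
    -- the conjugation by `a u a⁻¹` agrees with the one by `u`
    have key : (a * u * a⁻¹) * r * (a * u * a⁻¹)⁻¹ = u * r * u⁻¹ := by
      obtain ⟨i, hi, hui⟩ : ∃ i, (i = 1 ∨ i = z) ∧ u * r * u⁻¹ = i * r := by
        rcases H.st.comm_cases (H.toHyp.le1 hu) (H.toHyp.le1 hr) with e | e
        · exact ⟨1, Or.inl rfl, by rw [one_mul, e]⟩
        · exact ⟨z, Or.inr rfl, e⟩
      obtain ⟨j, hj, haj⟩ : ∃ j, (j = 1 ∨ j = z) ∧ a * r * a⁻¹ = j * r := by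
        rcases h r hr hrs with e | e
        · exact ⟨1, Or.inl rfl, by rw [one_mul, e]⟩
        · exact ⟨z, Or.inr rfl, e⟩
      have hji : Commute j a ∧ Commute j u ∧ Commute i a ∧ Commute j i := by
        refine ⟨?_, ?_, ?_, ?_⟩ <;> rcases hi with e1 | e1 <;> rcases hj with e2 | e2 <;> simp only [e1, e2] <;>
          first | exact Commute.one_left _ | exact Commute.one_right _ | exact Commute.refl _ |
            exact haz.symm | exact huz.symm
      obtain ⟨hja, hju, hia, hji'⟩ := hji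
      have er : r = j⁻¹ * (a * r * a⁻¹) := by rw [haj, inv_mul_cancel_left]
      calc (a * u * a⁻¹) * r * (a * u * a⁻¹)⁻¹
          = (a * u * a⁻¹) * (j⁻¹ * (a * r * a⁻¹)) * (a * u * a⁻¹)⁻¹ := by rw [← er]
        _ = ((a * u * a⁻¹) * j⁻¹ * (a * u * a⁻¹)⁻¹) * (a * (u * r * u⁻¹) * a⁻¹) := by group
        _ = j⁻¹ * ((a * i * a⁻¹) * (a * r * a⁻¹)) := by
          rw [conj_eq_self (((hja.mul_right hju).mul_right hja.inv_right).inv_left).symm.eq, hui]
          group
        _ = j⁻¹ * (i * (j * r)) := by rw [conj_eq_self hia.symm.eq, haj]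
        _ = _ := by rw [← mul_assoc i j, ← hji'.eq, mul_assoc j i, inv_mul_cancel_left, ← hui]
    have h2 : w * r * w⁻¹ = r := by
      calc w * r * w⁻¹ = u⁻¹ * ((a * u * a⁻¹) * r * (a * u * a⁻¹)⁻¹) * u := by rw [hw]; group
        _ = _ := by rw [key]; group
    exact (mul_inv_eq_iff_eq_mul.mp h2).symm
  have hws : w * s = s * w := (hwr s hs rfl).symm
  have hcases : w = 1 ∨ w = z ∨ w = s ∨ w = z * s := by
    by_contra hne
    simp only [not_or] at hne
    obtain ⟨n1, nz, ns, nzs⟩ := hne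
    obtain ⟨u2, hu2, hu2w⟩ := H.toHyp.move1 hw1 n1 nz
    have hu2s : u2 * s * u2⁻¹ = z * s := by
      refine (H.st.comm_cases (H.toHyp.le1 hu2) (H.toHyp.le1 hs)).resolve_left fun e => ?_
      have := hwr u2 hu2 (mul_inv_eq_iff_eq_mul.mp e)
      rw [conj_eq_self this] at hu2w
      exact H.st.ne_one (right_eq_mul.mp hu2w)
    have hcen : ∀ q ∈ Q1 Q B, q * (w * s) = w * s * q := by
      have base : ∀ r ∈ Q1 Q B, r * s = s * r → Commute r (w * s) := fun r hr hrs =>
        Commute.mul_right (hwr r hr hrs) hrs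
      have hu2c : Commute u2 (w * s) := by
        refine mul_inv_eq_iff_eq_mul.mp ?_
        rw [show u2 * (w * s) * u2⁻¹ = (u2 * w * u2⁻¹) * (u2 * s * u2⁻¹) by group, hu2w, hu2s,
          mul_assoc z w, ← mul_assoc w z, H.toHyp.q_z (H.toHyp.le1 hw1), mul_assoc z w, ← mul_assoc,
          H.st.zz, one_mul]
      intro q hq
      rcases H.st.comm_cases (H.toHyp.le1 hq) (H.toHyp.le1 hs) with e | e
      · exact base q hq (mul_inv_eq_iff_eq_mul.mp e)
      · have hmem : u2⁻¹ * q ∈ Q1 Q B := mul_mem (inv_mem hu2) hq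
        have hcomm : u2⁻¹ * q * s = s * (u2⁻¹ * q) := by
          refine mul_inv_eq_iff_eq_mul.mp ?_
          rw [show u2⁻¹ * q * s * (u2⁻¹ * q)⁻¹ = u2⁻¹ * (q * s * q⁻¹) * u2 by group, e, ← hu2s]
          group
        have := hu2c.mul_left (base _ hmem hcomm)
        rwa [mul_inv_cancel_left] at this
    rcases H.toHyp.z_central1 (mul_mem hw1 hs) hcen with e | e
    · exact ns (by rw [eq_inv_of_mul_eq_one_left e, inv_eq_of_mul_eq_one_right hs2])
    · exact nzs (by rw [← e, mul_assoc, hs2, mul_one])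
  have hu2' : a * u * a⁻¹ = u * w := by rw [hw, mul_inv_cancel_left]
  have hw' : w = 1 ∨ w = z := by
    have hsqc : a * (u * u) * a⁻¹ = u * u := by
      rcases H.st.sq_cases (H.toHyp.le1 hu) with e | e <;> rw [e]
      · group
      · exact conj_eq_self haz
    have hsq : u * w * (u * w) = u * u := by
      rw [← hu2', show a * u * a⁻¹ * (a * u * a⁻¹) = a * (u * u) * a⁻¹ by group, hsqc]
    have hsu : s * u = z * (u * s) := by
      have h1 : u * s = z * s * u := mul_inv_eq_iff_eq_mul.mp hus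
      rw [h1, ← mul_assoc z, ← mul_assoc z, H.st.zz, one_mul]
    have huz : u * z = z * u := H.toHyp.q_z (H.toHyp.le1 hu)
    have hbad : u * s * (u * s) = z * (u * u) := by
      rw [show u * s * (u * s) = u * (s * u) * s by group, hsu, ← mul_assoc u z, huz,
        show z * u * (u * s) * s = z * (u * u) * (s * s) by group, hs2, mul_one]
    rcases hcases with e | e | e | e
    · exact Or.inl e
    · exact Or.inr e
    · rw [e, hbad] at hsq
      exact absurd (mul_eq_right.mp hsq) H.st.ne_one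
    · rw [e, show u * (z * s) * (u * (z * s)) = u * z * s * (u * z * s) by group, huz,
        show z * u * s * (z * u * s) = z * (u * (s * z) * u * s) by group, H.toHyp.q_z (H.toHyp.le1 hs),
        show z * (u * (z * s) * u * s) = z * ((u * z) * s * u * s) by group, huz,
        show z * (z * u * s * u * s) = z * z * (u * s * (u * s)) by group, H.st.zz, one_mul, hbad] at hsq
      exact absurd (mul_eq_right.mp hsq) H.st.ne_one
  have hfix1 : ∀ q ∈ Q1 Q B, a * q * a⁻¹ = q ∨ a * q * a⁻¹ = z * q := by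
    intro q hq
    rcases H.st.comm_cases (H.toHyp.le1 hq) (H.toHyp.le1 hs) with e | e
    · exact h q hq (mul_inv_eq_iff_eq_mul.mp e)
    · have hmem : u⁻¹ * q ∈ Q1 Q B := mul_mem (inv_mem hu) hq
      have hcomm : u⁻¹ * q * s = s * (u⁻¹ * q) := by
        refine mul_inv_eq_iff_eq_mul.mp ?_
        rw [show u⁻¹ * q * s * (u⁻¹ * q)⁻¹ = u⁻¹ * (q * s * q⁻¹) * u by group, e, ← hus]
        group
      have e1 : a * q * a⁻¹ = u * w * (a * (u⁻¹ * q) * a⁻¹) := by rw [← hu2']; group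
      have huz : u * z = z * u := H.toHyp.q_z (H.toHyp.le1 hu)
      rw [e1]
      rcases hw' with f | f <;> rw [f] <;> rcases h _ hmem hcomm with e' | e' <;> rw [e']
      · exact Or.inl (by group)
      · exact Or.inr (by rw [mul_one, ← mul_assoc, huz]; group)
      · exact Or.inr (by rw [huz]; group)
      · exact Or.inl (by rw [huz, show z * u * (z * (u⁻¹ * q)) = z * (u * z) * (u⁻¹ * q) by group, huz,
          ← mul_assoc z z, H.st.zz]; group)
  refine H.kerQ a haz fun q hq => ?_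
  obtain ⟨q1, hq1, q2, hq2, rfl⟩ := H.toHyp.decomp hq
  have e2 : a * q2 * a⁻¹ = q2 := conj_eq_self ((mem_L1.mp ha).2 q2 hq2).symm
  rw [show a * (q1 * q2) * a⁻¹ = (a * q1 * a⁻¹) * (a * q2 * a⁻¹) by group, e2]
  rcases hfix1 q1 hq1 with e | e <;> rw [e]
  · exact Or.inl rfl
  · exact Or.inr (mul_assoc _ _ _)

/-- An involution of `L1` outside `Q` is not conjugate to `z` under `C(B)`. -/
theorem not_conj {y : G} (hy : y ∈ L1 z Q B) (hyy : y * y = 1) (hyQ : y ∉ Q) (h : G)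
    (hh : ∀ b ∈ B, b * h = h * b) : h * z * h⁻¹ ≠ y := by
  classical
  haveI := Fintype.ofFinite G
  intro e
  have HH := H.conj h hh
  rw [e] at HH
  set Qy := Q.map (MulAut.conj h).toMonoidHom with hQy
  have hyz : y * z = z * y := H.toHyp.L1_z hy
  have hzB : ∀ b ∈ B, b * z = z * b := fun b hb => H.toHyp.b_z hb
  have hyB : ∀ b ∈ B, b * y = y * b := fun b hb => H.L1_B hy hb
  have hzy1 : z ∈ L1 y Qy B := HH.toHyp.mem_L1_of_pow_four hyz.symm hzB (by rw [H.st.zz, one_mul])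
  have hzQy : z ∉ Qy := by
    intro hz
    have hne : z ≠ y := fun e' => hyQ (e' ▸ H.st.z_mem)
    have hh' : h⁻¹ * y * h⁻¹⁻¹ = z := by rw [← e]; group
    have := HH.st.conj_center_mem (g := h⁻¹) (by rw [hh']; exact hz) (by rw [hh']; exact hne)
      (by rw [HH.card]; norm_num)
    obtain ⟨q, ⟨p, hp, hpq⟩, hq⟩ := this
    rw [← hpq] at hq
    exact hyQ (hq ▸ by simpa [mul_assoc] using hp)
  set D := Q ⊓ Qy with hDdef
  have hbD : ∀ b ∈ B, ∀ d ∈ D, b * d * b⁻¹ ∈ D := fun b hb d hd =>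
    ⟨H.toHyp.conj_memQ (H.toHyp.b_z hb) hd.1, HH.toHyp.conj_memQ (HH.toHyp.b_z hb) hd.2⟩
  have hW0 : Q2 Q B ⊓ Q2 Qy B = ⊥ := H.toHyp.inv_bot _ inf_le_left
    (fun b hb x hx => ⟨H.toHyp.b_conj2 hb hx.1, HH.toHyp.b_conj2 hb hx.2⟩)
    (fun hz => hzQy (HH.toHyp.le2 hz.2))
  have diff : ∀ {z' : G} {Q' : Subgroup G}, Hyp z' Q' B → ∀ d ∈ Q', ∀ b ∈ B,
      d⁻¹ * (b * d * b⁻¹) ∈ Q2 Q' B := by
    intro z' Q' K d hd b hb
    obtain ⟨q1, hq1, q2, hq2, rfl⟩ := K.decomp hd
    have : (q1 * q2)⁻¹ * (b * (q1 * q2) * b⁻¹) = q2⁻¹ * (b * q2 * b⁻¹) := by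
      rw [show b * (q1 * q2) * b⁻¹ = (b * q1 * b⁻¹) * (b * q2 * b⁻¹) by group, K.b_conj1 hb hq1]
      group
    rw [this]
    exact mul_mem (inv_mem hq2) (K.b_conj2 hb hq2)
  have hDB : ∀ d ∈ D, ∀ b ∈ B, b * d = d * b := by
    intro d hd b hb
    have h1 : d⁻¹ * (b * d * b⁻¹) ∈ Q2 Q B ⊓ Q2 Qy B :=
      ⟨diff H.toHyp d hd.1 b hb, diff HH.toHyp d hd.2 b hb⟩
    rw [hW0, Subgroup.mem_bot, inv_mul_eq_one] at h1
    exact mul_inv_eq_iff_eq_mul.mp h1.symm
  have hD1 : ∀ d ∈ D, d ∈ Q1 Q B := fun d hd => mem_Q1.mpr ⟨hd.1, hDB d hd⟩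
  have hD2 : ∀ d ∈ D, d ∈ Q1 Qy B := fun d hd => mem_Q1.mpr ⟨hd.2, hDB d hd⟩
  have hDsq : ∀ d ∈ D, d * d = 1 := fun d hd => by
    rcases H.st.sq_cases hd.1 with h1 | h1
    · exact h1
    · exact absurd (h1 ▸ mul_mem hd.2 hd.2) hzQy
  have hDcomm : ∀ d ∈ D, ∀ d' ∈ D, d * d' = d' * d := fun d hd d' hd' => by
    have h1 := hDsq _ (mul_mem hd hd')
    calc d * d' = (d * d')⁻¹ := (inv_eq_of_mul_eq_one_right h1).symm
      _ = _ := by rw [mul_inv_rev, inv_eq_of_mul_eq_one_right (hDsq d hd),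
        inv_eq_of_mul_eq_one_right (hDsq d' hd')]
  have huniq : ∀ d ∈ D, ∀ d' ∈ D, d ≠ 1 → d' ≠ 1 → d = d' := by
    intro d hd d' hd' hd1 hd1'
    by_contra hne
    have hzcm : ∀ x ∈ D, Commute z x := fun x hx => (H.toHyp.q_z hx.1).symm
    let A : Subgroup G :=
      { carrier := {x | x ∈ D ∨ z * x ∈ D}
        one_mem' := Or.inl (one_mem D)
        mul_mem' := fun {p q} hp hq => by
          rcases hp with hp | hp <;> rcases hq with hq | hq
          · exact Or.inl (mul_mem hp hq)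
          · exact Or.inr (by rw [← mul_assoc, (hzcm p hp).eq, mul_assoc]; exact mul_mem hp hq)
          · exact Or.inr (by rw [← mul_assoc]; exact mul_mem hp hq)
          · have := mul_mem hp hq
            rw [mul_assoc z p, ← mul_assoc p z,
              show p * z = z * p by
                calc p * z = z⁻¹ * ((z * p) * z) := by group
                  _ = z⁻¹ * (z * (z * p)) := by rw [(hzcm _ hp).eq]
                  _ = _ := by group,
              mul_assoc z p q, ← mul_assoc z z, H.st.zz, one_mul] at this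
            exact Or.inl this
        inv_mem' := fun {p} hp => by
          rcases hp with hp | hp
          · exact Or.inl (inv_mem hp)
          · refine Or.inr ?_
            have := inv_mem hp
            rw [mul_inv_rev, H.st.inv_z] at this
            rw [show z * p⁻¹ = z * (p⁻¹ * z) * z⁻¹ by group, (hzcm _ this).eq, mul_inv_cancel_right]
            exact this }
    have hAle : A ≤ Q1 Q B := by
      rintro x (hx | hx)
      · exact hD1 x hx
      · have := mul_mem (inv_mem H.toHyp.z_mem1) (hD1 _ hx)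
        rwa [inv_mul_cancel_left] at this
    have hAel : Cfsg.IsElementaryAbelian 2 A := by
      have hform : ∀ x ∈ A, ∃ d0 ∈ D, x = d0 ∨ x = z * d0 := by
        rintro x (hx | hx)
        · exact ⟨x, hx, Or.inl rfl⟩
        · exact ⟨z * x, hx, Or.inr (by rw [← mul_assoc, H.st.zz, one_mul])⟩
      refine ⟨⟨⟨fun ⟨p, hp⟩ ⟨q, hq⟩ => Subtype.ext ?_⟩⟩, fun p hp => ?_⟩
      · obtain ⟨p0, hp0, ep⟩ := hform p hp
        obtain ⟨q0, hq0, eq⟩ := hform q hq
        have c : Commute p0 q0 := hDcomm p0 hp0 q0 hq0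
        rcases ep with rfl | rfl <;> rcases eq with rfl | rfl
        · exact c
        · exact Commute.mul_right (hzcm _ hp0).symm c
        · exact Commute.mul_left (hzcm _ hq0) c
        · exact Commute.mul_left (Commute.mul_right (Commute.refl z) (hzcm _ hq0))
            (Commute.mul_right (hzcm _ hp0).symm c)
      · obtain ⟨p0, hp0, ep⟩ := hform p hp
        rw [pow_two]
        rcases ep with rfl | rfl
        · exact hDsq _ hp0
        · rw [mul_assoc, ← mul_assoc p0, ← (hzcm p0 hp0).eq, mul_assoc z p0, hDsq p0 hp0, mul_one, H.st.zz]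
    have h4 := H.minus A hAle hAel
    rw [Nat.card_eq_fintype_card, Fintype.card_subtype] at h4
    have hz' : z ∉ D := fun hz => hzQy hz.2
    have hsub : ({1, z, d, d', d * d'} : Finset G) ⊆ Finset.univ.filter (· ∈ A) := by
      intro x hx
      simp only [Finset.mem_insert, Finset.mem_singleton] at hx
      rw [Finset.mem_filter]
      refine ⟨Finset.mem_univ _, ?_⟩
      rcases hx with rfl | rfl | rfl | rfl | rfl
      exacts [one_mem A, Or.inr (by rw [H.st.zz]; exact one_mem D), Or.inl hd, Or.inl hd', Or.inl (mul_mem hd hd')]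
    have h5 : ({1, z, d, d', d * d'} : Finset G).card = 5 := by
      have n1 : d * d' ≠ 1 := fun e' => hne (by rw [eq_inv_of_mul_eq_one_left e',
        inv_eq_of_mul_eq_one_right (hDsq d' hd')])
      rw [Finset.card_insert_of_notMem, Finset.card_insert_of_notMem, Finset.card_insert_of_notMem,
        Finset.card_insert_of_notMem, Finset.card_singleton]
      · rw [Finset.mem_singleton]; exact fun e' => hd1 (right_eq_mul.mp e')
      · simp only [Finset.mem_insert, Finset.mem_singleton, not_or]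
        exact ⟨hne, fun e' => hd1' (left_eq_mul.mp e')⟩
      · simp only [Finset.mem_insert, Finset.mem_singleton, not_or]
        exact ⟨fun e' => hz' (e' ▸ hd), fun e' => hz' (e' ▸ hd'), fun e' => hz' (e' ▸ mul_mem hd hd')⟩
      · simp only [Finset.mem_insert, Finset.mem_singleton, not_or]
        exact ⟨Ne.symm H.st.ne_one, Ne.symm hd1, Ne.symm hd1', Ne.symm n1⟩
    have := Finset.card_le_card hsub
    omega
  -- facts on `Q2` of `y`
  have haz : ∀ a ∈ Q2 Qy B, a * z = z * a := fun a ha => (mem_L1.mp hzy1).2 a ha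
  have hQ2y : ∀ q ∈ Q2 Q B, q * y = y * q := fun q hq => (mem_L1.mp hy).2 q hq
  have hdelta : ∀ a ∈ Q2 Qy B, ∀ x ∈ Q, x * y = y * x → a * x * a⁻¹ * x⁻¹ ∈ D := fun a ha x hx hxy =>
    Subgroup.mem_inf.mpr ⟨mul_mem (H.toHyp.conj_memQ (haz a ha) hx) (inv_mem hx), by
      rw [show a * x * a⁻¹ * x⁻¹ = a * (x * a⁻¹ * x⁻¹) by group]
      exact mul_mem (HH.toHyp.le2 ha) (HH.toHyp.conj_memQ hxy (inv_mem (HH.toHyp.le2 ha)))⟩
  have hstep : ∀ x ∈ Q1 Q B, (∀ d ∈ D, d * x = x * d) → ∀ a ∈ Q2 Qy B, a * x = x * a := by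
    intro x hx hxD
    refine HH.toHyp.kill (fun b hb => (mem_Q1.mp hx).2 b hb) fun a ha b hb => ?_
    refine (mem_Q1.mp (H.toHyp.mem1_of_comm (H.toHyp.conj_memQ (haz a ha) (H.toHyp.le1 hx)) fun q hq => ?_)).2 b hb
    have h1 : Commute x (a⁻¹ * q * a) := by
      have hd := hdelta a⁻¹ (inv_mem ha) q (H.toHyp.le2 hq) (hQ2y q hq)
      rw [inv_inv] at hd
      have := (show Commute x (a⁻¹ * q * a * q⁻¹) from (hxD _ hd).symm).mul_right (H.toHyp.comm12 hx hq)
      rwa [inv_mul_cancel_right] at this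
    calc q * (a * x * a⁻¹) = a * ((a⁻¹ * q * a) * x) * a⁻¹ := by group
      _ = a * (x * (a⁻¹ * q * a)) * a⁻¹ := by rw [h1.eq]
      _ = _ := by group
  by_cases hDtriv : ∀ d ∈ D, d = 1
  · -- everything is centralised
    have hall : ∀ a ∈ Q2 Qy B, a = 1 ∨ a = z := fun a ha => H.toHyp.cQ_eq
      (fun q hq => (hstep q hq (fun d hd => by rw [hDtriv d hd, one_mul, mul_one]) a ha).symm)
      (fun q hq => by
        have := hDtriv _ (hdelta a ha q (H.toHyp.le2 hq) (hQ2y q hq))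
        exact (mul_inv_eq_iff_eq_mul.mp (mul_inv_eq_one.mp this)).symm)
    obtain ⟨a, ha, c, hc, hac⟩ := HH.toHyp.nonabelian2
    rcases hall a ha with rfl | rfl
    · rw [one_mul, inv_one, mul_one] at hac
      exact HH.st.ne_one (right_eq_mul.mp hac)
    · exact hzQy (HH.toHyp.le2 ha)
  · push Not at hDtriv
    obtain ⟨d, hd, hd1⟩ := hDtriv
    have hDd : ∀ x ∈ D, x = 1 ∨ x = d := fun x hx => or_iff_not_imp_left.mpr fun h1 => huniq x hx d hd h1 hd1
    have hdz : d ≠ z := fun e' => hzQy (e' ▸ hd.2)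
    obtain ⟨m, hm, hmd⟩ := H.toHyp.move1 (hD1 d hd) hd1 hdz
    have hcD : ∀ x, x * d = d * x → ∀ d' ∈ D, d' * x = x * d' := fun x hx d' hd' => by
      rcases hDd d' hd' with rfl | rfl
      · rw [one_mul, mul_one]
      · exact hx.symm
    have hC : ∀ x ∈ Q1 Q B, x * d = d * x → ∀ a ∈ Q2 Qy B, a * x = x * a := fun x hx hxd =>
      hstep x hx (hcD x hxd)
    obtain ⟨a, ha, a', ha', haa⟩ := HH.toHyp.nonabelian2
    have hprod : a * a' = y * (a' * a) := by
      calc a * a' = a * a' * a⁻¹ * a := by group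
        _ = _ := by rw [haa]; group
    have hyC : ∀ x ∈ Q1 Q B, x * d = d * x → y * x = x * y := fun x hx hxd => by
      rw [show y = a * a' * a⁻¹ * a'⁻¹ by rw [haa]; group]
      have c1 : Commute a x := hC x hx hxd a ha
      have c2 : Commute a' x := hC x hx hxd a' ha'
      exact ((c1.mul_left c2).mul_left c1.inv_left).mul_left c2.inv_left
    have hwfacts : ∀ a0 ∈ Q2 Qy B, ∃ w1 ∈ Q1 Q B, ∃ w2 ∈ Q2 Q B, w1 * d = d * w1 ∧
        a0 * m * a0⁻¹ = m * (w1 * w2) := by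
      intro a0 ha0
      have hw : m⁻¹ * (a0 * m * a0⁻¹) ∈ Q :=
        mul_mem (inv_mem (H.toHyp.le1 hm)) (H.toHyp.conj_memQ (haz a0 ha0) (H.toHyp.le1 hm))
      have hcw : Commute d (m⁻¹ * (a0 * m * a0⁻¹)) := by
        have had : Commute a0 d := hC d (hD1 d hd) rfl a0 ha0
        refine (mul_inv_eq_iff_eq_mul.mp ?_ : (m⁻¹ * (a0 * m * a0⁻¹)) * d = d * _).symm
        calc m⁻¹ * (a0 * m * a0⁻¹) * d * (m⁻¹ * (a0 * m * a0⁻¹))⁻¹
            = m⁻¹ * (a0 * (m * (a0⁻¹ * d * a0⁻¹⁻¹) * m⁻¹) * a0⁻¹) * m := by group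
          _ = m⁻¹ * ((a0 * z * a0⁻¹) * (a0 * d * a0⁻¹)) * m := by rw [conj_eq_self had.inv_left.eq, hmd]; group
          _ = m⁻¹ * (z * d) * m := by rw [conj_eq_self (haz a0 ha0), conj_eq_self had.eq]
          _ = d := by rw [← hmd]; group
      obtain ⟨w1, hw1, w2, hw2, hdec⟩ := H.toHyp.decomp hw
      refine ⟨w1, hw1, w2, hw2, ?_, by rw [← hdec, mul_inv_cancel_left]⟩
      have h2 : Commute d w2 := H.toHyp.comm12 (hD1 d hd) hw2
      rw [hdec] at hcw
      have := hcw.mul_right h2.inv_right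
      rw [mul_inv_cancel_right] at this
      exact this.symm.eq
    obtain ⟨w1, hw1, w2, hw2, hw1d, hwm⟩ := hwfacts a ha
    obtain ⟨v1, hv1, v2, hv2, hv1d, hvm⟩ := hwfacts a' ha'
    have hmove : ∀ a0 ∈ Q2 Qy B, ∀ x1 ∈ Q1 Q B, ∀ x2 ∈ Q2 Q B, x1 * d = d * x1 →
        ∃ δ, (δ = 1 ∨ δ = d) ∧ a0 * (x1 * x2) * a0⁻¹ = δ * (x1 * x2) := by
      intro a0 ha0 x1 hx1 x2 hx2 hx1d
      refine ⟨_, hDd _ (hdelta a0 ha0 x2 (H.toHyp.le2 hx2) (hQ2y x2 hx2)), ?_⟩
      have c1 : Commute x1 (a0 * x2 * a0⁻¹ * x2⁻¹) :=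
        (hcD x1 hx1d _ (hdelta a0 ha0 x2 (H.toHyp.le2 hx2) (hQ2y x2 hx2))).symm
      rw [show a0 * (x1 * x2) * a0⁻¹ = (a0 * x1 * a0⁻¹) * (a0 * x2 * a0⁻¹ * x2⁻¹ * x2) by group,
        conj_eq_self (hC x1 hx1 hx1d a0 ha0), ← mul_assoc x1, c1.eq, mul_assoc]
    obtain ⟨δ1, hδ1, e1⟩ := hmove a ha v1 hv1 v2 hv2 hv1d
    obtain ⟨δ2, hδ2, e2⟩ := hmove a' ha' w1 hw1 w2 hw2 hw1d
    set w := w1 * w2
    set v := v1 * v2
    have hyw : ∀ x1 ∈ Q1 Q B, ∀ x2 ∈ Q2 Q B, x1 * d = d * x1 → Commute y (x1 * x2) :=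
      fun x1 h1 x2 h2 h3 => (show Commute y x1 from hyC x1 h1 h3).mul_right (hQ2y x2 h2).symm
    have hyd : Commute y d := hyC d (hD1 d hd) rfl
    have hdc : ∀ δ, δ = 1 ∨ δ = d → Commute δ w ∧ Commute δ v ∧ Commute y δ := by
      intro δ hδ
      rcases hδ with rfl | rfl
      · exact ⟨Commute.one_left _, Commute.one_left _, Commute.one_right _⟩
      · exact ⟨(show Commute δ w1 from hw1d.symm).mul_right (H.toHyp.comm12 (hD1 δ hd) hw2),
          (show Commute δ v1 from hv1d.symm).mul_right (H.toHyp.comm12 (hD1 δ hd) hv2), hyd⟩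
    have L : a * a' * m * (a * a')⁻¹ = m * (w * (δ1 * v)) := by
      rw [show a * a' * m * (a * a')⁻¹ = a * (a' * m * a'⁻¹) * a⁻¹ by group, hvm,
        show a * (m * v) * a⁻¹ = (a * m * a⁻¹) * (a * v * a⁻¹) by group, hwm, e1, mul_assoc]
    have R : a' * a * m * (a' * a)⁻¹ = m * (v * (δ2 * w)) := by
      rw [show a' * a * m * (a' * a)⁻¹ = a' * (a * m * a⁻¹) * a'⁻¹ by group, hwm,
        show a' * (m * w) * a'⁻¹ = (a' * m * a'⁻¹) * (a' * w * a'⁻¹) by group, hvm, e2, mul_assoc]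
    have hym : y * m * y⁻¹ * (v * (δ2 * w)) = m * (w * (δ1 * v)) := by
      have hc : Commute y (v * (δ2 * w)) :=
        (hyw v1 hv1 v2 hv2 hv1d).mul_right ((hdc δ2 hδ2).2.2.mul_right (hyw w1 hw1 w2 hw2 hw1d))
      rw [← L, hprod, show y * (a' * a) * m * (y * (a' * a))⁻¹ = y * (a' * a * m * (a' * a)⁻¹) * y⁻¹ by group,
        R, show y * (m * (v * (δ2 * w))) * y⁻¹ = y * m * y⁻¹ * (y * (v * (δ2 * w)) * y⁻¹) by group,
        conj_eq_self hc.eq]
    obtain ⟨i, hi, hwv⟩ : ∃ i, (i = 1 ∨ i = z) ∧ w * v = i * (v * w) := by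
      have hwQ : w ∈ Q := mul_mem (H.toHyp.le1 hw1) (H.toHyp.le2 hw2)
      have hvQ : v ∈ Q := mul_mem (H.toHyp.le1 hv1) (H.toHyp.le2 hv2)
      rcases H.st.comm_cases hwQ hvQ with e' | e'
      · exact ⟨1, Or.inl rfl, by rw [one_mul]; exact mul_inv_eq_iff_eq_mul.mp e'⟩
      · exact ⟨z, Or.inr rfl, (mul_inv_eq_iff_eq_mul.mp e').trans (mul_assoc _ _ _)⟩
    have hym2 : y * m * y⁻¹ = m * (δ1 * δ2⁻¹ * i) := by
      obtain ⟨c1w, c1v, -⟩ := hdc δ1 hδ1
      obtain ⟨c2w, c2v, -⟩ := hdc δ2 hδ2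
      have hiv : Commute i (v * w) := by
        rcases hi with rfl | rfl
        · exact Commute.one_left _
        · exact (H.toHyp.q_z (mul_mem (mul_mem (H.toHyp.le1 hv1) (H.toHyp.le2 hv2))
            (mul_mem (H.toHyp.le1 hw1) (H.toHyp.le2 hw2)))).symm
      rw [← mul_assoc v δ2 w, ← c2v.eq, mul_assoc δ2 v w, ← mul_assoc w δ1 v, ← c1w.eq, mul_assoc δ1 w v,
        hwv] at hym
      have hiδ : Commute i δ2 := by
        rcases hi with rfl | rfl
        · exact Commute.one_left _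
        · rcases hδ2 with rfl | rfl
          · exact Commute.one_right _
          · exact (H.toHyp.q_z hd.1).symm
      rw [show δ1 * δ2⁻¹ * i = δ1 * (i * δ2⁻¹) by rw [mul_assoc, hiδ.inv_right.eq]]
      calc y * m * y⁻¹ = m * (δ1 * (i * (v * w))) * (δ2 * (v * w))⁻¹ := by rw [← hym]; group
        _ = _ := by group
    have hfix : y * m * y⁻¹ = m ∨ y * m * y⁻¹ = z * m := by
      have hmz : m * z = z * m := H.toHyp.q_z (H.toHyp.le1 hm)
      have hδ : δ1 * δ2⁻¹ = 1 ∨ δ1 * δ2⁻¹ = d := by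
        rcases hδ1 with rfl | rfl <;> rcases hδ2 with rfl | rfl
        · left; group
        · right; rw [one_mul]; exact inv_eq_of_mul_eq_one_right (hDsq _ hd)
        · right; group
        · left; group
      rcases hδ with e' | e' <;> rw [e'] at hym2
      · rcases hi with rfl | rfl
        · exact Or.inl (by rw [hym2]; group)
        · exact Or.inr (by rw [hym2, one_mul, hmz])
      · exfalso
        have hsq : y * (m * m) * y⁻¹ = m * m := by
          rcases H.st.sq_cases (H.toHyp.le1 hm) with s | s <;> rw [s]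
          · group
          · exact conj_eq_self hyz
        have hdm : d * m = z * (m * d) := by
          have h1 : m * d = z * d * m := mul_inv_eq_iff_eq_mul.mp hmd
          rw [h1, ← mul_assoc z, ← mul_assoc z, H.st.zz, one_mul]
        have hbad : m * d * (m * d) = z * (m * m) := by
          rw [show m * d * (m * d) = m * (d * m) * d by group, hdm, ← mul_assoc m z, hmz,
            show z * m * (m * d) * d = z * (m * m) * (d * d) by group, hDsq d hd, mul_one]
        have hmd2 : m * (d * i) * (m * (d * i)) = m * d * (m * d) := by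
          rcases hi with hi | hi <;> rw [hi]
          · group
          · have hdz' : d * z = z * d := H.toHyp.q_z hd.1
            have c1 : Commute z (m * d) := (show Commute z m from hmz.symm).mul_right hdz'.symm
            rw [show m * (d * z) * (m * (d * z)) = m * d * (z * (m * d)) * z by group, c1.eq,
              show m * d * (m * d * z) * z = m * d * (m * d) * (z * z) by group, H.st.zz, mul_one]
        rw [show y * (m * m) * y⁻¹ = (y * m * y⁻¹) * (y * m * y⁻¹) by group, hym2, hmd2, hbad] at hsq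
        exact H.st.ne_one (mul_eq_right.mp hsq)
    refine hyQ (H.kerQ y hyz fun q hq => ?_)
    obtain ⟨q1, hq1, q2, hq2, rfl⟩ := H.toHyp.decomp hq
    rw [show y * (q1 * q2) * y⁻¹ = (y * q1 * y⁻¹) * (y * q2 * y⁻¹) by group,
      conj_eq_self (hQ2y q2 hq2).symm]
    rcases H.st.comm_cases (H.toHyp.le1 hq1) hd.1 with e' | e'
    · exact Or.inl (by rw [conj_eq_self (hyC q1 hq1 (mul_inv_eq_iff_eq_mul.mp e'))])
    · have hcomm : m⁻¹ * q1 * d = d * (m⁻¹ * q1) := by
        refine mul_inv_eq_iff_eq_mul.mp ?_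
        rw [show m⁻¹ * q1 * d * (m⁻¹ * q1)⁻¹ = m⁻¹ * (q1 * d * q1⁻¹) * m by group, e', ← hmd]
        group
      have h1 := conj_eq_self (hyC _ (mul_mem (inv_mem hm) hq1) hcomm)
      rw [show y * q1 * y⁻¹ = (y * m * y⁻¹) * (y * (m⁻¹ * q1) * y⁻¹) by group, h1]
      rcases hfix with f | f <;> rw [f]
      · exact Or.inl (by group)
      · exact Or.inr (by group)

end Top

end CfsgLib.ConwayFive
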