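import Cfsg.Agent.Lib.ConwayFive.Pair

/-!
An involution of `L1` outside `Q`, and the subgroup centralising both layers.
-/

set_option autoImplicit false

namespace CfsgLib.ConwayFive

open CfsgLib.Extraspecial

variable {G : Type*} [Group G] [Finite G] {z g : G} {Q B : Subgroup G}

namespace Hyp

variable (H : Hyp z Q B)
include H

/-- The centraliser in `Q1` of the centraliser of a noncentral involution. -/
theorem centre_R1 {s w : G} (hs : s ∈ Q1 Q B) (hs2 : s * s = 1) (hs1 : s ≠ 1) (hsz : s ≠ z)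
    (hw : w ∈ Q1 Q B) (h : ∀ r ∈ Q1 Q B, r * s = s * r → r * w = w * r) :
    w = 1 ∨ w = z ∨ w = s ∨ w = z * s := by
  by_contra hne
  simp only [not_or] at hne
  obtain ⟨n1, nz, ns, nzs⟩ := hne
  obtain ⟨u2, hu2, hu2w⟩ := H.move1 hw n1 nz
  have hu2s : u2 * s * u2⁻¹ = z * s := by
    refine (H.st.comm_cases (H.le1 hu2) (H.le1 hs)).resolve_left fun e => ?_
    have := h u2 hu2 (mul_inv_eq_iff_eq_mul.mp e)
    rw [conj_eq_self this] at hu2w
    exact H.st.ne_one (right_eq_mul.mp hu2w)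
  have base : ∀ r ∈ Q1 Q B, r * s = s * r → Commute r (w * s) := fun r hr hrs =>
    Commute.mul_right (h r hr hrs) hrs
  have hu2c : Commute u2 (w * s) := by
    refine mul_inv_eq_iff_eq_mul.mp ?_
    rw [show u2 * (w * s) * u2⁻¹ = (u2 * w * u2⁻¹) * (u2 * s * u2⁻¹) by group, hu2w, hu2s,
      mul_assoc z w, ← mul_assoc w z, H.q_z (H.le1 hw), mul_assoc z w, ← mul_assoc, H.st.zz, one_mul]
  have hcen : ∀ q ∈ Q1 Q B, q * (w * s) = w * s * q := by
    intro q hq
    rcases H.st.comm_cases (H.le1 hq) (H.le1 hs) with e | e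
    · exact base q hq (mul_inv_eq_iff_eq_mul.mp e)
    · have hmem : u2⁻¹ * q ∈ Q1 Q B := mul_mem (inv_mem hu2) hq
      have hcomm : u2⁻¹ * q * s = s * (u2⁻¹ * q) := by
        refine mul_inv_eq_iff_eq_mul.mp ?_
        rw [show u2⁻¹ * q * s * (u2⁻¹ * q)⁻¹ = u2⁻¹ * (q * s * q⁻¹) * u2 by group, e, ← hu2s]
        group
      have := hu2c.mul_left (base _ hmem hcomm)
      rwa [mul_inv_cancel_left] at this
  rcases H.z_central1 (mul_mem hw hs) hcen with e | e
  · exact ns (by rw [eq_inv_of_mul_eq_one_left e, inv_eq_of_mul_eq_one_right hs2])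
  · exact nzs (by rw [← e, mul_assoc, hs2, mul_one])

theorem elem_four {s w : G} (hs : s ∈ Q1 Q B) (hs2 : s * s = 1) (hs1 : s ≠ 1) (hsz : s ≠ z)
    (hw : w ∈ Q1 Q B) (hw2 : w * w = 1) (hws : w * s = s * w) :
    w = 1 ∨ w = z ∨ w = s ∨ w = z * s := by
  classical
  haveI := Fintype.ofFinite G
  by_contra hne
  simp only [not_or] at hne
  obtain ⟨n1, nz, ns, nzs⟩ := hne
  let T : Set G := {z, s, w}
  let A := Subgroup.closure T
  have hT : T ⊆ Q1 Q B := by
    intro x hx
    simp only [T, Set.mem_insert_iff, Set.mem_singleton_iff] at hx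
    rcases hx with rfl | rfl | rfl
    exacts [H.z_mem1, hs, hw]
  have hA : A ≤ Q1 Q B := (Subgroup.closure_le _).mpr hT
  have hAc : IsMulCommutative A := Subgroup.isMulCommutative_closure (by
    intro x hx y hy
    simp only [T, Set.mem_insert_iff, Set.mem_singleton_iff] at hx hy
    rcases hx with rfl | rfl | rfl <;> rcases hy with rfl | rfl | rfl
    exacts [rfl, (H.q_z (H.le1 hs)).symm, (H.q_z (H.le1 hw)).symm, H.q_z (H.le1 hs), rfl, hws.symm,
      H.q_z (H.le1 hw), hws, rfl])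
  have hA2 : ∀ a ∈ A, a ^ 2 = 1 := by
    intro a ha
    induction ha using Subgroup.closure_induction with
    | mem x hx =>
      simp only [T, Set.mem_insert_iff, Set.mem_singleton_iff] at hx
      rw [pow_two]
      rcases hx with rfl | rfl | rfl
      exacts [H.st.zz, hs2, hw2]
    | one => exact one_pow 2
    | mul x y hx hy hx2 hy2 =>
      have hc : Commute x y := congrArg Subtype.val (hAc.is_comm.comm ⟨x, hx⟩ ⟨y, hy⟩)
      rw [hc.mul_pow, hx2, hy2, one_mul]
    | inv x _ hx => rw [inv_pow, hx, inv_one]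
  have h4 := H.minus A hA ⟨hAc, hA2⟩
  rw [Nat.card_eq_fintype_card, Fintype.card_subtype] at h4
  have hsub : ({1, z, s, z * s, w} : Finset G) ⊆ Finset.univ.filter (· ∈ A) := by
    intro x hx
    simp only [Finset.mem_insert, Finset.mem_singleton] at hx
    rw [Finset.mem_filter]
    refine ⟨Finset.mem_univ _, ?_⟩
    have mz : z ∈ A := Subgroup.subset_closure (by simp [T])
    have ms : s ∈ A := Subgroup.subset_closure (by simp [T])
    have mw : w ∈ A := Subgroup.subset_closure (by simp [T])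
    rcases hx with rfl | rfl | rfl | rfl | rfl
    exacts [one_mem A, mz, ms, mul_mem mz ms, mw]
  have h5 : ({1, z, s, z * s, w} : Finset G).card = 5 := by
    have hzs1 : z * s ≠ 1 := fun e => hsz ((eq_inv_of_mul_eq_one_right e).trans H.st.inv_z)
    rw [Finset.card_insert_of_notMem, Finset.card_insert_of_notMem, Finset.card_insert_of_notMem,
      Finset.card_insert_of_notMem, Finset.card_singleton]
    · rw [Finset.mem_singleton]; exact Ne.symm nzs
    · simp only [Finset.mem_insert, Finset.mem_singleton, not_or]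
      exact ⟨fun e => H.st.ne_one (right_eq_mul.mp e), Ne.symm ns⟩
    · simp only [Finset.mem_insert, Finset.mem_singleton, not_or]
      exact ⟨Ne.symm hsz, fun e => hs1 (left_eq_mul.mp e), Ne.symm nz⟩
    · simp only [Finset.mem_insert, Finset.mem_singleton, not_or]
      exact ⟨Ne.symm H.st.ne_one, Ne.symm hs1, Ne.symm hzs1, Ne.symm n1⟩
  have := Finset.card_le_card hsub
  omega

end Hyp

namespace Mov

variable (M : Mov z Q B g)
include M

local notation "z'" => g * z * g⁻¹
local notation "Q'" => Qc Q g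

theorem tc : Top z' Q' B := M.toTop.conj g M.gB

theorem z'2 : z' * z' = 1 := M.tc.st.zz

theorem z'1 : z' ≠ 1 := M.tc.st.ne_one

theorem z_mem' : z ∈ Q1 Q' B := mem_Q1.mpr
  ⟨M.st.conj_center_mem (M.toHyp.le1 M.mem1) M.ne (by rw [M.card]; norm_num), fun _ hb => M.toHyp.b_z hb⟩

theorem z'_z : z' * z = z * z' := M.toHyp.q_z (M.toHyp.le1 M.mem1)

theorem R1'_le {a : G} (ha : a ∈ Q1 Q' B) (haz : a * z = z * a) : a ∈ L1 z Q B :=
  M.toHyp.mem_L1_of_pow_four haz (fun b hb => (mem_Q1.mp ha).2 b hb) (M.tc.toHyp.pow_four (M.tc.toHyp.le1 ha))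

theorem R1_le {b : G} (hb : b ∈ Q1 Q B) (hbz : b * z' = z' * b) : b ∈ L1 z' Q' B :=
  M.tc.toHyp.mem_L1_of_pow_four hbz (fun c hc => (mem_Q1.mp hb).2 c hc) (M.toHyp.pow_four (M.toHyp.le1 hb))

theorem inter {w : G} (hw : w ∈ Q1 Q B) (hw' : w ∈ Q1 Q' B) :
    w = 1 ∨ w = z ∨ w = z' ∨ w = z * z' := by
  have hw2 : w * w = 1 := by
    rcases M.st.sq_cases (M.toHyp.le1 hw) with e | e
    · exact e
    rcases M.tc.st.sq_cases (M.tc.toHyp.le1 hw') with e' | e'
    · exact e'
    · exact absurd (e'.symm.trans e) M.ne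
  exact M.toHyp.elem_four M.mem1 M.z'2 M.z'1 M.ne hw hw2 (M.tc.toHyp.q_z (M.tc.toHyp.le1 hw'))

theorem bracket {a b : G} (ha : a ∈ Q1 Q' B) (haz : a * z = z * a) (hb : b ∈ Q1 Q B)
    (hbz : b * z' = z' * b) :
    a * b * a⁻¹ * b⁻¹ = 1 ∨ a * b * a⁻¹ * b⁻¹ = z ∨ a * b * a⁻¹ * b⁻¹ = z' ∨ a * b * a⁻¹ * b⁻¹ = z * z' := by
  refine M.inter (mul_mem (M.toHyp.L1_norm1 (M.R1'_le ha haz) hb) (inv_mem hb)) ?_
  rw [show a * b * a⁻¹ * b⁻¹ = a * (b * a⁻¹ * b⁻¹) by group]
  exact mul_mem ha (M.tc.toHyp.L1_norm1 (M.R1_le hb hbz) (inv_mem ha))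

theorem V_comm {w a : G} (ha : a * z = z * a) (ha' : a * z' = z' * a)
    (hw : w = 1 ∨ w = z ∨ w = z' ∨ w = z * z') : Commute a w := by
  rcases hw with rfl | rfl | rfl | rfl
  exacts [Commute.one_right _, ha, ha', (show Commute a z from ha).mul_right ha']

/-- There is an involution of `L1` outside `Q`. -/
theorem exists_invol : ∃ y ∈ L1 z Q B, y * y = 1 ∧ y ∉ Q := by
  let R1 : G → Prop := fun b => b ∈ Q1 Q B ∧ b * z' = z' * b
  let R1' : G → Prop := fun a => a ∈ Q1 Q' B ∧ a * z = z * a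
  let d : G → G → G := fun a b => a * b * a⁻¹ * b⁻¹
  have hz'z : z' ≠ z := M.ne
  have h1z' : (1 : G) ≠ z' := Ne.symm M.z'1
  -- a pair acting nontrivially
  obtain ⟨u', hu', hu'z⟩ := M.tc.toHyp.move1 M.z_mem' M.st.ne_one (Ne.symm M.ne)
  obtain ⟨u, hu, huz⟩ := M.toHyp.move1 M.mem1 M.z'1 M.ne
  have ha_good : ∃ a b, R1' a ∧ R1 b ∧ d a b ≠ 1 ∧ d a b ≠ z := by
    by_contra hne
    push Not at hne
    -- `R1'` lies in `Q`
    have hsub : ∀ a, R1' a → a ∈ Q := fun a ha =>
      M.toTop.trivial_action M.mem1 M.z'2 M.z'1 M.ne (M.R1'_le ha.1 ha.2)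
        (M.tc.toHyp.q_z (M.tc.toHyp.le1 ha.1)) fun r hr hrs => by
          by_cases h1 : d a r = 1
          · exact Or.inl (mul_inv_eq_one.mp h1)
          · refine Or.inr ?_
            have := hne a r ha ⟨hr, hrs⟩ h1
            exact mul_inv_eq_iff_eq_mul.mp this
    have hV : ∀ a, R1' a → a = 1 ∨ a = z ∨ a = z' ∨ a = z * z' := fun a ha =>
      M.inter (M.toHyp.L1_inf_Q (M.R1'_le ha.1 ha.2) (hsub a ha)) ha.1
    -- but `Q1'` is not abelian on the hyperplane
    have hall : ∀ q ∈ Q1 Q' B, R1' q ∨ R1' (u'⁻¹ * q) := by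
      intro q hq
      rcases M.tc.st.comm_cases (M.tc.toHyp.le1 hq) (M.tc.toHyp.le1 M.z_mem') with e | e
      · exact Or.inl ⟨hq, mul_inv_eq_iff_eq_mul.mp e⟩
      · refine Or.inr ⟨mul_mem (inv_mem hu') hq, ?_⟩
        refine mul_inv_eq_iff_eq_mul.mp ?_
        rw [show u'⁻¹ * q * z * (u'⁻¹ * q)⁻¹ = u'⁻¹ * (q * z * q⁻¹) * u' by group, e, ← hu'z]
        group
    classical
    haveI := Fintype.ofFinite G
    have hle : (Finset.univ.filter (· ∈ Q1 Q' B)) ⊆
        ({1, z, z', z * z'} : Finset G) ∪ ({1, z, z', z * z'} : Finset G).image (u' * ·) := by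
      intro q hq
      rw [Finset.mem_filter] at hq
      rw [Finset.mem_union]
      rcases hall q hq.2 with h | h
      · left; simpa using hV q h
      · right
        rw [Finset.mem_image]
        exact ⟨u'⁻¹ * q, by simpa using hV _ h, mul_inv_cancel_left _ _⟩
    have hc := Finset.card_le_card hle
    have h32 := M.tc.card1
    rw [Nat.card_eq_fintype_card, Fintype.card_subtype] at h32
    have h4 : ({1, z, z', z * z'} : Finset G).card ≤ 4 := Finset.card_le_four
    have := (hc.trans (Finset.card_union_le _ _)).trans (Nat.add_le_add h4 ((Finset.card_image_le).trans h4))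
    omega
  have hb_good : ∃ a b, R1' a ∧ R1 b ∧ d a b ≠ 1 ∧ d a b ≠ z' := by
    by_contra hne
    push Not at hne
    have hsub : ∀ b, R1 b → b ∈ Q' := fun b hb =>
      M.tc.trivial_action M.z_mem' M.st.zz M.st.ne_one (Ne.symm M.ne) (M.R1_le hb.1 hb.2)
        (M.toHyp.q_z (M.toHyp.le1 hb.1)) fun r hr hrs => by
          by_cases h1 : d r b = 1
          · refine Or.inl (conj_eq_self ?_)
            exact (mul_inv_eq_iff_eq_mul.mp (mul_inv_eq_one.mp h1)).symm
          · refine Or.inr ?_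
            have h2 : r * b * r⁻¹ * b⁻¹ = z' := hne r b ⟨hr, hrs⟩ hb h1
            have hrb : r * b = z' * (b * r) := by
              rw [← h2]; group
            have hbr : b * r = z' * (r * b) := by rw [hrb, ← mul_assoc, M.z'2, one_mul]
            rw [hbr]; group
    have hV : ∀ b, R1 b → b = 1 ∨ b = z ∨ b = z' ∨ b = z * z' := fun b hb =>
      M.inter hb.1 (M.tc.toHyp.L1_inf_Q (M.R1_le hb.1 hb.2) (hsub b hb))
    have hall : ∀ q ∈ Q1 Q B, R1 q ∨ R1 (u⁻¹ * q) := by
      intro q hq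
      rcases M.st.comm_cases (M.toHyp.le1 hq) (M.toHyp.le1 M.mem1) with e | e
      · exact Or.inl ⟨hq, mul_inv_eq_iff_eq_mul.mp e⟩
      · refine Or.inr ⟨mul_mem (inv_mem hu) hq, ?_⟩
        refine mul_inv_eq_iff_eq_mul.mp ?_
        rw [show u⁻¹ * q * z' * (u⁻¹ * q)⁻¹ = u⁻¹ * (q * z' * q⁻¹) * u by group, e, ← huz]
        group
    classical
    haveI := Fintype.ofFinite G
    have hle : (Finset.univ.filter (· ∈ Q1 Q B)) ⊆
        ({1, z, z', z * z'} : Finset G) ∪ ({1, z, z', z * z'} : Finset G).image (u * ·) := by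
      intro q hq
      rw [Finset.mem_filter] at hq
      rw [Finset.mem_union]
      rcases hall q hq.2 with h | h
      · left; simpa using hV q h
      · right
        rw [Finset.mem_image]
        exact ⟨u⁻¹ * q, by simpa using hV _ h, mul_inv_cancel_left _ _⟩
    have hc := Finset.card_le_card hle
    have h32 := M.card1
    rw [Nat.card_eq_fintype_card, Fintype.card_subtype] at h32
    have h4 : ({1, z, z', z * z'} : Finset G).card ≤ 4 := Finset.card_le_four
    have := (hc.trans (Finset.card_union_le _ _)).trans (Nat.add_le_add h4 ((Finset.card_image_le).trans h4))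
    omega
  have hVc : ∀ {a b a' b'}, R1' a → R1 b → R1' a' → R1 b' → Commute a' (d a b) ∧ Commute b' (d a b) :=
    fun {a b a' b'} ha hb ha' hb' =>
      ⟨M.V_comm ha'.2 (M.tc.toHyp.q_z (M.tc.toHyp.le1 ha'.1)) (M.bracket ha.1 ha.2 hb.1 hb.2),
        M.V_comm (M.toHyp.q_z (M.toHyp.le1 hb'.1)) hb'.2 (M.bracket ha.1 ha.2 hb.1 hb.2)⟩
  have hadd1 : ∀ {a a' b}, R1' a → R1' a' → R1 b → d (a * a') b = d a' b * d a b := by
    intro a a' b ha ha' hb
    have h1 := (hVc ha' hb ha hb).1
    calc d (a * a') b = (a * d a' b * a⁻¹) * d a b := by simp only [d]; group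
      _ = _ := by rw [conj_eq_self h1.eq]
  have hadd2 : ∀ {a b b'}, R1' a → R1 b → R1 b' → d a (b * b') = d a b * d a b' := by
    intro a b b' ha hb hb'
    have h1 := (hVc ha hb' ha hb).2
    calc d a (b * b') = d a b * (b * d a b' * b⁻¹) := by simp only [d]; group
      _ = _ := by rw [conj_eq_self h1.eq]
  -- a pair with bracket `z z'`
  obtain ⟨a, b, ha, hb, hab⟩ : ∃ a b, R1' a ∧ R1 b ∧ d a b = z * z' := by
    by_contra hne
    push Not at hne
    obtain ⟨a, b, ha, hb, h1, hz⟩ := ha_good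
    obtain ⟨a', b', ha', hb', h1', hz'⟩ := hb_good
    have hab : d a b = z' := ((((M.bracket ha.1 ha.2 hb.1 hb.2).resolve_left h1).resolve_left hz)).resolve_right
      (hne a b ha hb)
    have hab' : d a' b' = z := by
      rcases M.bracket ha'.1 ha'.2 hb'.1 hb'.2 with e | e | e | e
      exacts [absurd e h1', e, absurd e hz', absurd e (hne a' b' ha' hb')]
    have hRb : R1 (b * b') := ⟨mul_mem hb.1 hb'.1, ((show Commute b z' from hb.2).mul_left hb'.2).eq⟩
    have hRa : R1' (a * a') := ⟨mul_mem ha.1 ha'.1, ((show Commute a z from ha.2).mul_left ha'.2).eq⟩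
    have v1 : d a b' = 1 := by
      have h2 := hne a (b * b') ha hRb
      rw [hadd2 ha hb hb', hab] at h2
      have h3 := hne a b' ha hb'
      rcases M.bracket ha.1 ha.2 hb'.1 hb'.2 with e | e | e | e
      · exact e
      · exact absurd (show z' * d a b' = z * z' by rw [show d a b' = z from e]; exact M.z'_z) h2
      · exact absurd e (fun e' => by
          have h4 := hne (a * a') b' hRa hb'
          rw [hadd1 ha ha' hb', hab', show d a b' = z' from e'] at h4
          exact h4 rfl)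
      · exact absurd e h3
    have v2 : d a' b = 1 := by
      have h3 := hne a' b ha' hb
      rcases M.bracket ha'.1 ha'.2 hb.1 hb.2 with e | e | e | e
      · exact e
      · exact absurd e (fun e' => by
          have h4 := hne (a * a') b hRa hb
          rw [hadd1 ha ha' hb, hab, show d a' b = z from e'] at h4
          exact h4 rfl)
      · exact absurd e (fun e' => by
          have h4 := hne a' (b * b') ha' hRb
          rw [hadd2 ha' hb hb', hab', show d a' b = z' from e'] at h4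
          exact h4 M.z'_z)
      · exact absurd e h3
    refine hne (a * a') (b * b') hRa hRb ?_
    rw [hadd1 ha ha' hRb, hadd2 ha hb hb', hadd2 ha' hb hb', hab, hab', v1, v2, one_mul, mul_one]
  -- the squares
  have hzz' : z * z' ≠ 1 := fun e => hz'z ((eq_inv_of_mul_eq_one_right e).trans M.st.inv_z)
  have hd1 : d a b ≠ 1 := hab ▸ hzz'
  have hb2 : b * b = z := by
    refine (M.st.sq_cases (M.toHyp.le1 hb.1)).resolve_left fun e => hd1 ?_
    have hc : Commute a b := M.V_comm ha.2 (M.tc.toHyp.q_z (M.tc.toHyp.le1 ha.1))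
      (M.toHyp.elem_four M.mem1 M.z'2 M.z'1 M.ne hb.1 e hb.2)
    show a * b * a⁻¹ * b⁻¹ = 1
    rw [conj_eq_self hc.eq, mul_inv_cancel]
  have ha2 : a * a = z' := by
    refine (M.tc.st.sq_cases (M.tc.toHyp.le1 ha.1)).resolve_left fun e => hd1 ?_
    have hV := M.tc.toHyp.elem_four M.z_mem' M.st.zz M.st.ne_one (Ne.symm M.ne) ha.1 e ha.2
    have hc : Commute b a := by
      have hbz' : Commute b z' := hb.2
      have hbz : Commute b z := M.toHyp.q_z (M.toHyp.le1 hb.1)
      rcases hV with h | h | h | h <;> rw [h]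
      exacts [Commute.one_right _, hbz', hbz, hbz'.mul_right hbz]
    show a * b * a⁻¹ * b⁻¹ = 1
    rw [conj_eq_self hc.symm.eq, mul_inv_cancel]
  have hda := hVc ha hb ha hb
  refine ⟨a * b, mul_mem (M.R1'_le ha.1 ha.2) (M.toHyp.Q1_le_L1 hb.1), ?_, fun h => hd1 ?_⟩
  · have hd2 : d a b * d a b = 1 := by
      rw [hab, show z * z' * (z * z') = z * (z' * z) * z' by group, M.z'_z, ← mul_assoc z z, M.st.zz, one_mul,
        M.z'2]
    have hinv : (d a b)⁻¹ = d a b := inv_eq_of_mul_eq_one_right hd2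
    calc a * b * (a * b) = a * (b * a) * b := by group
      _ = a * ((d a b)⁻¹ * (a * b)) * b := by simp only [d]; group
      _ = d a b * ((a * a) * (b * b)) := by rw [hinv, ← mul_assoc a, hda.1.eq]; group
      _ = 1 := by rw [ha2, hb2, M.z'_z, hab, show z * z' * (z * z') = d a b * d a b by rw [hab]]; exact hd2
  · have haQ : a ∈ Q := by
      have := mul_mem h (inv_mem (M.toHyp.le1 hb.1))
      rwa [mul_inv_cancel_right] at this
    have hc : Commute b a := M.V_comm (M.toHyp.q_z (M.toHyp.le1 hb.1)) hb.2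
      (M.inter (M.toHyp.L1_inf_Q (M.R1'_le ha.1 ha.2) haQ) ha.1)
    show a * b * a⁻¹ * b⁻¹ = 1
    rw [conj_eq_self hc.symm.eq, mul_inv_cancel]

/-- The complement centralising both layers. -/
theorem exists_U : Nonempty (↥(L2 z Q B ⊓ L2 z' Q' B) ≃* A₅) := by
  classical
  haveI := Fintype.ofFinite G
  set U := L2 z Q B ⊓ L2 z' Q' B with hUdef
  obtain ⟨u', hu', hu'z⟩ := M.tc.toHyp.move1 M.z_mem' M.st.ne_one (Ne.symm M.ne)
  have hu'Q : u' ∈ Q' := M.tc.toHyp.le1 hu'
  have hz'_Q : z' ∈ Q2 Q' B := M.tc.toHyp.z_mem2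
  have hkz' : ∀ k ∈ L2 z Q B, k * z' = z' * k := fun k hk => ((mem_L2.mp hk).2 _ M.mem1).symm
  have hfix : ∀ k ∈ L2 z Q B, ∀ r ∈ Q1 Q' B, r * z = z * r → k * r = r * k := fun k hk r hr hrz =>
    (M.toTop.comm_L (M.R1'_le hr hrz) hk).symm
  -- the stabiliser
  have hU : ∀ k ∈ L2 z Q B, k * u' = u' * k → k ∈ U := by
    intro k hk hku
    refine ⟨hk, mem_L2.mpr ⟨hkz' k hk, fun q hq => ?_⟩⟩
    rcases M.tc.st.comm_cases (M.tc.toHyp.le1 hq) (M.tc.toHyp.le1 M.z_mem') with e | e
    · exact (hfix k hk q hq (mul_inv_eq_iff_eq_mul.mp e)).symm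
    · have hm : u'⁻¹ * q ∈ Q1 Q' B := mul_mem (inv_mem hu') hq
      have hc : u'⁻¹ * q * z = z * (u'⁻¹ * q) := by
        refine mul_inv_eq_iff_eq_mul.mp ?_
        rw [show u'⁻¹ * q * z * (u'⁻¹ * q)⁻¹ = u'⁻¹ * (q * z * q⁻¹) * u' by group, e, ← hu'z]
        group
      have h1 := (show Commute k u' from hku).mul_right (hfix k hk _ hm hc)
      rw [mul_inv_cancel_left] at h1
      exact h1.symm.eq
  -- the possible images
  let C0 : Finset G := Finset.univ.filter fun w => w ∈ Q' ∧ ∀ r ∈ Q1 Q' B, r * z = z * r → r * w = w * r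
  have hC0 : C0.card ≤ 64 := by
    let Q2' : Finset G := Finset.univ.filter (· ∈ Q2 Q' B)
    have hsub : C0 ⊆ Q2' ∪ Q2'.image (z * ·) := by
      intro w hw
      rw [Finset.mem_filter] at hw
      obtain ⟨-, hwQ, hwr⟩ := hw
      obtain ⟨q1, hq1, q2, hq2, rfl⟩ := M.tc.toHyp.decomp hwQ
      have hV := M.tc.toHyp.centre_R1 M.z_mem' M.st.zz M.st.ne_one (Ne.symm M.ne) hq1 fun r hr hrz => by
        have h1 : Commute r (q1 * q2) := hwr r hr hrz
        have h2 := h1.mul_right (show Commute r q2 from M.tc.toHyp.comm12 hr hq2).inv_right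
        rwa [mul_inv_cancel_right] at h2
      simp only [Q2', Finset.mem_union, Finset.mem_image, Finset.mem_filter, Finset.mem_univ, true_and]
      rcases hV with h | h | h | h <;> rw [h]
      · exact Or.inl (by rwa [one_mul])
      · exact Or.inl (mul_mem hz'_Q hq2)
      · exact Or.inr ⟨q2, hq2, rfl⟩
      · refine Or.inr ⟨z' * q2, mul_mem hz'_Q hq2, ?_⟩
        rw [← mul_assoc, M.z'_z]
    have h32 := M.tc.toHyp.card2
    rw [Nat.card_eq_fintype_card, Fintype.card_subtype] at h32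
    have := (Finset.card_le_card hsub).trans
      ((Finset.card_union_le _ _).trans (Nat.add_le_add le_rfl Finset.card_image_le))
    simp only [Q2'] at this
    omega
  let T : Finset G := Finset.univ.filter fun x => u'⁻¹ * x ∈ C0 ∧ x * x = u' * u' ∧ x * z = z' * z * x
  have hzC0 : ∀ w ∈ C0, w * z ∈ C0 := by
    intro w hw
    rw [Finset.mem_filter] at hw ⊢
    exact ⟨Finset.mem_univ _, mul_mem hw.2.1 (M.tc.toHyp.le1 M.z_mem'),
      fun r hr hrz => ((show Commute r w from hw.2.2 r hr hrz).mul_right hrz).eq⟩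
  have hT : 2 * T.card ≤ 64 := by
    have hdisj : Disjoint T (T.image (· * z)) := by
      rw [Finset.disjoint_left]
      intro x hx hx'
      obtain ⟨y, hy, rfl⟩ := Finset.mem_image.mp hx'
      rw [Finset.mem_filter] at hx hy
      have hyz := hy.2.2.2
      have h1 : y * z * (y * z) = z' * (y * y) := by
        rw [show y * z * (y * z) = y * z * y * z by group, hyz,
          show z' * z * y * y * z = z' * z * ((y * y) * z) by group, hy.2.2.1]
        have hc : Commute (u' * u') z := by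
          rcases M.tc.st.sq_cases hu'Q with e | e <;> rw [e]
          exacts [Commute.one_left _, M.z'_z]
        rw [hc.eq, mul_assoc z' z, ← mul_assoc z z, M.st.zz, one_mul]
      rw [hx.2.2.1, hy.2.2.1] at h1
      exact M.z'1 (right_eq_mul.mp h1)
    have hsub : (T ∪ T.image (· * z)).image (u'⁻¹ * ·) ⊆ C0 := by
      intro w hw
      obtain ⟨x, hx, rfl⟩ := Finset.mem_image.mp hw
      rcases Finset.mem_union.mp hx with h | h
      · exact (Finset.mem_filter.mp h).2.1
      · obtain ⟨y, hy, rfl⟩ := Finset.mem_image.mp h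
        show u'⁻¹ * (y * z) ∈ C0
        rw [← mul_assoc]
        exact hzC0 _ (Finset.mem_filter.mp hy).2.1
    have h1 := Finset.card_le_card hsub
    rw [Finset.card_image_of_injective _ (mul_right_injective _), Finset.card_union_of_disjoint hdisj,
      Finset.card_image_of_injective _ (mul_left_injective z)] at h1
    omega
  have himg : ∀ k ∈ L2 z Q B, k * u' * k⁻¹ ∈ T := by
    intro k hk
    have hkQ : k * u' * k⁻¹ ∈ Q' := M.tc.toHyp.conj_memQ (hkz' k hk) hu'Q
    have hkz : k * z = z * k := M.toHyp.L2_z hk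
    refine Finset.mem_filter.mpr ⟨Finset.mem_univ _, Finset.mem_filter.mpr
      ⟨Finset.mem_univ _, mul_mem (inv_mem hu'Q) hkQ, fun r hr hrz => ?_⟩, ?_, ?_⟩
    · have hkr : Commute k r := hfix k hk r hr hrz
      -- `u' r u'⁻¹` is `r` times a central element
      rcases M.tc.st.comm_cases hu'Q (M.tc.toHyp.le1 hr) with e | e
      · have hc : Commute u' r := mul_inv_eq_iff_eq_mul.mp e
        exact ((hc.inv_left).mul_left ((hkr.mul_left hc).mul_left hkr.inv_left)).symm.eq
      · refine (mul_inv_eq_iff_eq_mul.mp ?_).symm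
        have hkz'' : Commute k z' := hkz' k hk
        calc u'⁻¹ * (k * u' * k⁻¹) * r * (u'⁻¹ * (k * u' * k⁻¹))⁻¹
            = u'⁻¹ * (k * (u' * (k⁻¹ * r * k⁻¹⁻¹) * u'⁻¹) * k⁻¹) * u' := by group
          _ = u'⁻¹ * ((k * z' * k⁻¹) * (k * r * k⁻¹)) * u' := by rw [conj_eq_self hkr.inv_left.eq, e]; group
          _ = u'⁻¹ * (u' * r * u'⁻¹) * u' := by rw [conj_eq_self hkz''.eq, conj_eq_self hkr.eq, e]
          _ = r := by group
    · rw [show k * u' * k⁻¹ * (k * u' * k⁻¹) = k * (u' * u') * k⁻¹ by group]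
      rcases M.tc.st.sq_cases hu'Q with e | e <;> rw [e]
      · group
      · exact conj_eq_self (hkz' k hk)
    · have e : u' * z = z' * z * u' := mul_inv_eq_iff_eq_mul.mp hu'z
      have hc : Commute k (z' * z) := (show Commute k z' from hkz' k hk).mul_right hkz
      calc k * u' * k⁻¹ * z = k * u' * (k⁻¹ * z) := by group
        _ = k * (u' * z) * k⁻¹ := by rw [(show Commute k z from hkz).inv_left.eq]; group
        _ = (k * (z' * z)) * u' * k⁻¹ := by rw [e]; group
        _ = _ := by rw [hc.eq]; group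
  obtain ⟨π, hπ, hπk⟩ := M.quot2
  have hL2card : Nat.card ↥(L2 z Q B) = 1920 := by
    have hker : Nat.card π.ker = 32 := by
      rw [← M.toHyp.card2]
      exact Nat.card_congr
        { toFun := fun l => ⟨l.1.1, mem_Q2.mpr ⟨(hπk l.1).mp l.2, (mem_L2.mp l.1.2).2⟩⟩
          invFun := fun q => ⟨⟨q.1, M.toHyp.Q2_le_L2 q.2⟩, (hπk _).mpr (M.toHyp.le2 q.2)⟩
          left_inv := fun l => rfl
          right_inv := fun q => rfl }
    have h1 := π.ker.card_mul_index
    rw [hker, Subgroup.index_ker, MonoidHom.range_eq_top.2 hπ, Subgroup.card_top, nat_card_alternatingGroup,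
      Nat.card_fin] at h1
    rw [← h1]; decide
  have hcount : Nat.card ↥(L2 z Q B) ≤ Nat.card U * T.card := by
    rw [Nat.card_eq_fintype_card, Nat.card_eq_fintype_card, Fintype.card_subtype, Fintype.card_subtype]
    refine Finset.card_le_mul_card_image_of_maps_to (f := fun k => k * u' * k⁻¹) (fun k hk => himg k (Finset.mem_filter.mp hk).2) _ fun x hx => ?_
    by_cases hex : ∃ k0 ∈ L2 z Q B, k0 * u' * k0⁻¹ = x
    · obtain ⟨k0, hk0, hk0x⟩ := hex
      refine Finset.card_le_card_of_injOn (fun k => k0⁻¹ * k) ?_ (fun _ _ _ _ h => mul_left_cancel h)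
      intro k hk
      simp only [Finset.coe_filter, Finset.mem_filter, Finset.mem_univ, true_and, Set.mem_setOf_eq] at hk ⊢
      refine hU _ (mul_mem (inv_mem hk0) hk.1) (mul_inv_eq_iff_eq_mul.mp ?_)
      rw [show k0⁻¹ * k * u' * (k0⁻¹ * k)⁻¹ = k0⁻¹ * (k * u' * k⁻¹) * k0 by group, hk.2, ← hk0x]
      group
    · rw [Finset.card_eq_zero.mpr ?_]
      · exact Nat.zero_le _
      · rw [Finset.filter_eq_empty_iff]
        intro k hk e
        exact hex ⟨k, (Finset.mem_filter.mp hk).2, e⟩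
  have hU60 : 60 ≤ Nat.card U := by
    rw [hL2card] at hcount
    nlinarith [Nat.mul_le_mul_left (Nat.card U) (show T.card ≤ 32 by omega)]
  have hinfQ : ∀ x ∈ U, x ∈ Q → x = 1 := by
    have hbot : U ⊓ Q = ⊥ := by
      refine M.toHyp.inv_bot _ (fun x hx => mem_Q2.mpr ⟨hx.2, (mem_L2.mp hx.1.1).2⟩) (fun b hb x hx => ?_) ?_
      · refine Subgroup.mem_inf.mpr ⟨?_, M.toHyp.conj_memQ (M.toHyp.b_z hb) hx.2⟩
        have hbU : b ∈ U := Subgroup.mem_inf.mpr ⟨M.toHyp.B_le_L2 hb, M.tc.toHyp.B_le_L2 hb⟩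
        exact mul_mem (mul_mem hbU hx.1) (inv_mem hbU)
      · intro hz
        have h1 : u' * z = z * u' := (mem_L2.mp hz.1.2).2 u' hu'
        rw [conj_eq_self h1] at hu'z
        exact M.z'1 (right_eq_mul.mp hu'z)
    intro x hx hxQ
    have : x ∈ U ⊓ Q := ⟨hx, hxQ⟩
    rwa [hbot, Subgroup.mem_bot] at this
  let φ : U →* A₅ := π.comp (Subgroup.inclusion inf_le_left)
  have hinj : Function.Injective φ := by
    rw [injective_iff_map_eq_one]
    intro x hx
    exact Subtype.ext (hinfQ x.1 x.2 ((hπk _).mp hx))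
  have hA : Nat.card A₅ = 60 := by rw [nat_card_alternatingGroup, Nat.card_fin]; decide
  exact ⟨MulEquiv.ofBijective φ ((Nat.bijective_iff_injective_and_card φ).2
    ⟨hinj, le_antisymm (Nat.card_le_card_of_injective φ hinj) (hA ▸ hU60)⟩)⟩

end Mov

end CfsgLib.ConwayFive
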