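import Cfsg.Agent.Lib.ConwayFive.Model
import Cfsg.Agent.Lib.SuzType.Build
import Cfsg.Agent.Lib.J2Type.Hyp

/-!
The quotients of the centralisers of `Q1` and `Q2` in `C(z)` are alternating of degree five.
-/

set_option autoImplicit false

namespace CfsgLib.ConwayFive

open CfsgLib.Extraspecial

abbrev A₅ : Type := ↥(alternatingGroup (Fin 5))

variable {G : Type*} [Group G] [Finite G]

/-- The hypotheses with the facts taken from the orthogonal group. -/
structure Top (z : G) (Q B : Subgroup G) : Prop extends Hyp z Q B where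
  kerQ : ∀ c, c * z = z * c → (∀ x ∈ Q, c * x * c⁻¹ = x ∨ c * x * c⁻¹ = z * x) → c ∈ Q
  trans : ∀ x ∈ Q, x * x = 1 → x ≠ 1 → x ≠ z → ∀ y ∈ Q, y * y = 1 → y ≠ 1 → y ≠ z → IsConj x y
  quot1 : ∃ π : ↥(L1 z Q B) →* A₅, Function.Surjective π ∧ ∀ l : ↥(L1 z Q B), π l = 1 ↔ (l : G) ∈ Q
  quot2 : ∃ π : ↥(L2 z Q B) →* A₅, Function.Surjective π ∧ ∀ l : ↥(L2 z Q B), π l = 1 ↔ (l : G) ∈ Q

theorem alt5_squares {H : Type*} [Group H] (f : H →* A₅) (h : ∀ a : A₅, ∃ x, f x = a * a) :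
    Function.Surjective f := by
  haveI : IsSimpleGroup A₅ := alternatingGroup.isSimpleGroup_five
  intro a
  let K : Subgroup A₅ := Subgroup.closure {y | ∃ b : A₅, b * b = y}
  have hn : K.Normal := ⟨fun k hk g => by
    induction hk using Subgroup.closure_induction with
    | mem x hx =>
      obtain ⟨b, rfl⟩ := hx
      exact Subgroup.subset_closure ⟨g * b * g⁻¹, by group⟩
    | one => rw [mul_one, mul_inv_cancel]; exact one_mem _
    | mul x y _ _ hx hy =>
      rw [show g * (x * y) * g⁻¹ = g * x * g⁻¹ * (g * y * g⁻¹) by group]; exact mul_mem hx hy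
    | inv x _ hx => rw [show g * x⁻¹ * g⁻¹ = (g * x * g⁻¹)⁻¹ by group]; exact inv_mem hx⟩
  have htop : K = ⊤ := by
    refine (hn.eq_bot_or_eq_top).resolve_left fun hb => ?_
    obtain ⟨b, hb5, hb1⟩ := CfsgLib.J2Order.alt5_five
    have h1 : b * b ∈ K := Subgroup.subset_closure ⟨b, rfl⟩
    rw [hb, Subgroup.mem_bot] at h1
    apply hb1
    rw [show b = b ^ 5 * ((b * b) * (b * b))⁻¹ by group, hb5, h1]
    simp
  have hle : K ≤ f.range := by
    rw [Subgroup.closure_le]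
    rintro _ ⟨b, rfl⟩
    exact h b
  exact hle (htop ▸ Subgroup.mem_top a)

theorem alt5_of_sign (d : isoGrp e4 →* ℤˣ) (hs : ∃ φ, d φ = -1) : Nonempty (d.ker ≃* A₅) := by
  obtain ⟨p⟩ := iso4_perm
  obtain ⟨φ, hφ⟩ := hs
  have hsurj : Function.Surjective d := fun w => by
    rcases Int.units_eq_one_or w with rfl | rfl
    exacts [⟨1, map_one _⟩, ⟨φ, hφ⟩]
  have hi : d.ker.index = 2 := by
    rw [Subgroup.index_ker, MonoidHom.range_eq_top.2 hsurj, Subgroup.card_top, Nat.card_eq_fintype_card]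
    rfl
  have h : (d.ker.map p.toMonoidHom).index = 2 := by
    rw [Subgroup.index_map_of_bijective p.bijective, hi]
  refine ⟨(Subgroup.equivMapOfInjective _ p.toMonoidHom p.injective).trans (MulEquiv.subgroupCongr ?_)⟩
  exact Equiv.Perm.eq_alternatingGroup_of_index_eq_two h

set_option maxHeartbeats 800000 in
theorem exists_top (z : G) (C : Subgroup G) (memC : ∀ g : G, g ∈ C ↔ g * z = z * g) (Q : Subgroup C) [Q.Normal]
    (B : Subgroup G) (H : Hyp z (Q.map C.subtype) B)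
    (e : C ⧸ Q ≃* Cfsg.Omega (ZMod 2) (Cfsg.quadFormPlus 4 (ZMod 2))) :
    Top z (Q.map C.subtype) B := by
  classical
  haveI : Fact (Nat.Prime 2) := ⟨Nat.prime_two⟩
  set R := Q.map C.subtype with hR
  have hmemC : ∀ {c : G}, c ∈ C ↔ c * z = z * c := fun {c} => memC c
  have inC : ∀ {l : G} {L : Subgroup G}, l ∈ Subgroup.centralizer ({z} : Set G) ⊓ L → l ∈ C :=
    fun h => hmemC.mpr (Subgroup.mem_centralizer_singleton_iff.mp h.1)
  obtain ⟨d, hd⟩ := exists_iso8
  obtain ⟨ψ1⟩ := H.exists_coord1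
  obtain ⟨ψ2⟩ := H.exists_coord2
  -- the centres agree
  have hz1 : ∀ t : ZMod 2, ((ψ1.symm ⟨0, t⟩ : Q1 R B) : G) = cond (decide (t = 1)) z 1 := by
    intro t
    rcases zmod_two_cases t with rfl | rfl
    · rw [show (⟨0, 0⟩ : Model e4) = 1 from rfl, map_one]; rfl
    · have hc : (⟨0, 1⟩ : Model e4) ∈ Subgroup.center (Model e4) := (Model.mem_center_iff _).mpr rfl
      refine ((H.z_central1 (ψ1.symm ⟨0, 1⟩).2 (fun r hr => by
        have := congrArg (fun w => ((ψ1.symm w : Q1 R B) : G)) (Subgroup.mem_center_iff.mp hc (ψ1 ⟨r, hr⟩))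
        simpa using this)).resolve_left fun h => ?_)
      have h1 : ψ1.symm (⟨0, 1⟩ : Model e4) = 1 := Subtype.ext h
      rw [MulEquiv.map_eq_one_iff] at h1
      exact absurd (congrArg Model.a h1 : (1 : ZMod 2) = 0) one_ne_zero
  have hz2 : ∀ t : ZMod 2, ((ψ2.symm ⟨0, t⟩ : Q2 R B) : G) = cond (decide (t = 1)) z 1 := by
    intro t
    rcases zmod_two_cases t with rfl | rfl
    · rw [show (⟨0, 0⟩ : Model e4) = 1 from rfl, map_one]; rfl
    · have hc : (⟨0, 1⟩ : Model e4) ∈ Subgroup.center (Model e4) := (Model.mem_center_iff _).mpr rfl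
      refine ((H.q2_central (ψ2.symm ⟨0, 1⟩).2 (fun r hr => by
        have := congrArg (fun w => ((ψ2.symm w : Q2 R B) : G)) (Subgroup.mem_center_iff.mp hc (ψ2 ⟨r, hr⟩))
        simpa using this)).resolve_left fun h => ?_)
      have h1 : ψ2.symm (⟨0, 1⟩ : Model e4) = 1 := Subtype.ext h
      rw [MulEquiv.map_eq_one_iff] at h1
      exact absurd (congrArg Model.a h1 : (1 : ZMod 2) = 0) one_ne_zero
  let u1 : Model e4 → G := fun m => ((ψ1.symm m : Q1 R B) : G)
  let u2 : Model e4 → G := fun m => ((ψ2.symm m : Q2 R B) : G)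
  have u1mul : ∀ a b, u1 (a * b) = u1 a * u1 b := fun a b => by simp [u1, map_mul]
  have u2mul : ∀ a b, u2 (a * b) = u2 a * u2 b := fun a b => by simp [u2, map_mul]
  have u12 : ∀ a b, u1 a * u2 b = u2 b * u1 a := fun a b => H.comm12 (ψ1.symm a).2 (ψ2.symm b).2
  have uz : ∀ t, u1 ⟨0, t⟩ = u2 ⟨0, t⟩ := fun t => (hz1 t).trans (hz2 t).symm
  have split : ∀ (v : Coord 2) (a b : ZMod 2), (⟨v, a + b⟩ : Model e4) = ⟨v, a⟩ * ⟨0, b⟩ := fun v a b => by
    ext1 <;> simp [Model.mul_v, Model.mul_a, cocycle_zero_right]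
  let χf : Model e8 → G := fun m => u1 ⟨fs m.v, m.a⟩ * u2 ⟨sn m.v, 0⟩
  have χmul : ∀ m n, χf (m * n) = χf m * χf n := by
    intro m n
    show u1 ⟨fs (m.v + n.v), m.a + n.a + cocycle e8 m.v n.v⟩ * u2 ⟨sn (m.v + n.v), 0⟩ = _
    rw [cocycle_split, fs_add, sn_add, ← add_assoc, split, u1mul, uz,
      show (⟨fs m.v + fs n.v, m.a + n.a + cocycle e4 (fs m.v) (fs n.v)⟩ : Model e4) =
        ⟨fs m.v, m.a⟩ * ⟨fs n.v, n.a⟩ from rfl, u1mul, mul_assoc (u1 _ * u1 _), ← u2mul,
      show (⟨0, cocycle e4 (sn m.v) (sn n.v)⟩ : Model e4) * ⟨sn m.v + sn n.v, 0⟩ =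
        ⟨sn m.v, 0⟩ * ⟨sn n.v, 0⟩ by ext1 <;> simp [Model.mul_v, Model.mul_a, cocycle_zero_left],
      u2mul]
    show _ = u1 _ * u2 _ * (u1 _ * u2 _)
    rw [mul_assoc (u1 _) (u2 _), ← mul_assoc (u2 _) (u1 _), ← u12]
    simp only [mul_assoc]
  have χmemR : ∀ m, χf m ∈ R := fun m => mul_mem (H.le1 (ψ1.symm _).2) (H.le2 (ψ2.symm _).2)
  let E : ↥Q ≃* ↥R := Q.equivMapOfInjective C.subtype C.subtype_injective
  let χ : Model e8 →* ↥R := MonoidHom.mk' (fun m => ⟨χf m, χmemR m⟩) (fun m n => Subtype.ext (χmul m n))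
  have χinj : Function.Injective χ := by
    rw [injective_iff_map_eq_one]
    intro m hm
    have hm' : u1 ⟨fs m.v, m.a⟩ * u2 ⟨sn m.v, 0⟩ = 1 := congrArg Subtype.val hm
    have hcen : ∀ q ∈ Q1 R B, q * u1 ⟨fs m.v, m.a⟩ = u1 ⟨fs m.v, m.a⟩ * q := fun q hq => by
      rw [eq_inv_of_mul_eq_one_left hm']
      exact (show Commute q _ from H.comm12 hq (ψ2.symm ⟨sn m.v, 0⟩).2).inv_right
    have hfs : fs m.v = 0 := by
      have hc : ψ1.symm ⟨fs m.v, m.a⟩ ∈ Subgroup.center ↥(Q1 R B) :=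
        Subgroup.mem_center_iff.mpr fun q => Subtype.ext (hcen q q.2)
      have : (⟨fs m.v, m.a⟩ : Model e4) ∈ Subgroup.center (Model e4) := by
        rw [Subgroup.mem_center_iff]
        intro w
        have h := congrArg ψ1 (Subgroup.mem_center_iff.mp hc (ψ1.symm w))
        simpa using h
      exact (Model.mem_center_iff _).mp this
    rw [hfs, uz, ← u2mul] at hm'
    have h2 : ψ2.symm ((⟨0, m.a⟩ : Model e4) * ⟨sn m.v, 0⟩) = 1 := Subtype.ext hm'
    rw [MulEquiv.map_eq_one_iff] at h2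
    have hv : sn m.v = 0 := by
      have := congrArg Model.v h2
      rwa [Model.mul_v, zero_add] at this
    have ha : m.a = 0 := by
      have := congrArg Model.a h2
      simpa [Model.mul_a, cocycle_zero_left, Model.one_a] using this
    exact Model.ext (by rw [← glue_fs_sn m.v, hfs, hv, glue_zero]; rfl) ha
  have χbij : Function.Bijective χ := (Nat.bijective_iff_injective_and_card χ).2
    ⟨χinj, by rw [Model.card, H.card]; norm_num⟩
  let ψ : ↥Q ≃* Model e8 := E.trans (MulEquiv.ofBijective χ χbij).symm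
  have hψ : ∀ m, (((ψ.symm m : Q) : C) : G) = χf m := fun m => by
    show ((E (E.symm (χ m)) : R) : G) = _
    rw [E.apply_symm_apply]; rfl
  have hcent : ∀ c : C, (∀ x ∈ Q, c * x = x * c) → c ∈ Q := by
    intro c hc
    have h1 : (c : G) ∈ Subgroup.centralizer (R : Set G) := by
      rw [Subgroup.mem_centralizer_iff]
      rintro _ ⟨x, hx, rfl⟩
      exact congrArg Subtype.val (hc x hx).symm
    rw [H.st.cQ] at h1
    obtain ⟨y, hy, hyc⟩ := Subgroup.zpowers_le.mpr H.st.z_mem h1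
    exact Subtype.ext hyc ▸ hy
  let π := SuzType.actHom Q ψ
  have hker : π.ker = Q := SuzType.actHom_ker Q ψ hcent
  have hπcard : Nat.card π.range = Nat.card d.ker := by
    rw [SuzType.actHom_card Q ψ hcent, hd.card]
    exact Nat.card_congr e.toEquiv
  have hπi : π.range.index = 2 := by
    have h1 := π.range.card_mul_index
    rw [hπcard, ← d.ker.card_mul_index, hd.index] at h1
    exact Nat.eq_of_mul_eq_mul_left Nat.card_pos h1
  have hrange : π.range = d.ker := by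
    have hle : d.ker ≤ π.range := hd.comm_le.trans (by
      rw [commutator_def, Subgroup.commutator_le]
      intro a _ b _
      rw [commutatorElement_def, Subgroup.mul_mem_iff_of_index_two hπi, Subgroup.mul_mem_iff_of_index_two hπi,
        Subgroup.mul_mem_iff_of_index_two hπi, inv_mem_iff, inv_mem_iff]
      tauto)
    exact (Subgroup.eq_of_le_of_card_ge hle hπcard.le).symm
  -- the action on elements
  have hv : ∀ (c : C) (m : Model e8), ∃ a : ZMod 2,
      (c : G) * χf m * (c : G)⁻¹ = χf ⟨(π c).1 m.v, a⟩ := by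
    intro c m
    refine ⟨(ψ ⟨c * (ψ.symm m : Q) * c⁻¹, Subgroup.Normal.conj_mem inferInstance _ (ψ.symm m).2 c⟩).a, ?_⟩
    have h1 := SuzType.actHom_apply Q ψ c (ψ.symm m)
    rw [ψ.apply_symm_apply] at h1
    rw [← hψ, ← hψ, show (⟨(π c).1 m.v, (ψ ⟨c * (ψ.symm m : Q) * c⁻¹,
      Subgroup.Normal.conj_mem inferInstance _ (ψ.symm m).2 c⟩).a⟩ : Model e8) =
      ψ ⟨c * (ψ.symm m : Q) * c⁻¹, Subgroup.Normal.conj_mem inferInstance _ (ψ.symm m).2 c⟩ from
      Model.ext h1 rfl, ψ.symm_apply_apply]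
    rfl
  have hχsurj : ∀ {x : G}, x ∈ R → ∃ m, χf m = x := fun {x} hx => by
    obtain ⟨m, hm⟩ := χbij.2 ⟨x, hx⟩
    exact ⟨m, congrArg Subtype.val hm⟩
  have hχinj : ∀ {m n}, χf m = χf n → m = n := fun h => χbij.1 (Subtype.ext h)
  have χz : χf ⟨0, 1⟩ = z := by
    show u1 ⟨fs 0, 1⟩ * u2 ⟨sn 0, 0⟩ = z
    rw [show fs (0 : Coord 4) = 0 from funext fun i => by fin_cases i <;> rfl,
      show sn (0 : Coord 4) = 0 from funext fun i => by fin_cases i <;> rfl, ← uz, ← u1mul]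
    exact hz1 1
  have samev : ∀ m n : Model e8, m.v = n.v → χf n = χf m ∨ χf n = z * χf m := by
    intro m n h
    rcases zmod_two_cases (n.a + m.a) with ha | ha
    · exact Or.inl (congrArg χf (Model.ext h.symm (CharTwo.add_eq_zero.mp ha)))
    · refine Or.inr ?_
      rw [← χz, ← χmul]
      congr 1
      refine Model.ext (by rw [Model.mul_v, zero_add, h]) ?_
      rw [Model.mul_a, cocycle_zero_left, add_zero]
      show n.a = 1 + m.a
      rw [← ha, add_assoc, CharTwo.add_self_eq_zero, add_zero]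
  -- the kernel
  have hkerQ : ∀ c, c * z = z * c → (∀ x ∈ R, c * x * c⁻¹ = x ∨ c * x * c⁻¹ = z * x) → c ∈ R := by
    intro c hc h
    have h1 : (⟨c, hmemC.mpr hc⟩ : C) ∈ π.ker := by
      refine Subtype.ext (LinearEquiv.ext fun w => ?_)
      show (π ⟨c, hmemC.mpr hc⟩).1 w = w
      obtain ⟨a, ha⟩ := hv ⟨c, hmemC.mpr hc⟩ ⟨w, 0⟩
      change c * χf ⟨w, 0⟩ * c⁻¹ = _ at ha
      rcases h _ (χmemR ⟨w, 0⟩) with e | e <;> rw [e] at ha
      · exact (congrArg Model.v (hχinj ha)).symm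
      · have e1 : χf ((⟨0, 1⟩ : Model e8) * ⟨w, 0⟩) = z * χf ⟨w, 0⟩ := by rw [χmul, χz]
        have := congrArg Model.v (hχinj (e1.trans ha))
        rw [Model.mul_v, zero_add] at this
        exact this.symm
    rw [hker] at h1
    exact ⟨_, h1, rfl⟩
  have hker' : ∀ c : C, π c = 1 ↔ (c : G) ∈ R := fun c => by
    rw [← MonoidHom.mem_ker, hker]
    exact ⟨fun h => ⟨c, h, rfl⟩, fun ⟨y, hy, h⟩ => Subtype.ext h ▸ hy⟩
  -- coordinates of the two factors
  have hq1 : ∀ u, χf ⟨glue u 0, 0⟩ ∈ Q1 R B := fun u => by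
    show u1 ⟨fs (glue u 0), 0⟩ * u2 ⟨sn (glue u 0), 0⟩ ∈ _
    rw [sn_glue, show (⟨0, 0⟩ : Model e4) = 1 from rfl]
    simp only [u1, u2, map_one, OneMemClass.coe_one, mul_one]
    exact (ψ1.symm _).2
  have hq2 : ∀ w, χf ⟨glue 0 w, 0⟩ ∈ Q2 R B := fun w => by
    show u1 ⟨fs (glue 0 w), 0⟩ * u2 ⟨sn (glue 0 w), 0⟩ ∈ _
    rw [fs_glue, show (⟨0, 0⟩ : Model e4) = 1 from rfl]
    simp only [u1, u2, map_one, OneMemClass.coe_one, one_mul]
    exact (ψ2.symm _).2
  have hval1 : ∀ {x}, x ∈ Q1 R B → ∀ {m}, χf m = x → sn m.v = 0 := by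
    intro x hx m hm
    have h : χf m = χf ⟨glue (ψ1 ⟨x, hx⟩).v 0, (ψ1 ⟨x, hx⟩).a⟩ := by
      rw [hm]
      show x = u1 ⟨fs (glue _ 0), _⟩ * u2 ⟨sn (glue _ 0), 0⟩
      rw [fs_glue, sn_glue, show (⟨0, 0⟩ : Model e4) = 1 from rfl]
      simp only [u1, u2, map_one, OneMemClass.coe_one, mul_one]
      exact (congrArg Subtype.val (ψ1.symm_apply_apply ⟨x, hx⟩)).symm
    rw [hχinj h]; exact sn_glue _ _
  have hval2 : ∀ {x}, x ∈ Q2 R B → ∀ {m}, χf m = x → fs m.v = 0 := by
    intro x hx m hm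
    have h : χf m = χf ⟨glue 0 (ψ2 ⟨x, hx⟩).v, (ψ2 ⟨x, hx⟩).a⟩ := by
      rw [hm]
      show x = u1 ⟨fs (glue 0 _), _⟩ * u2 ⟨sn (glue 0 _), 0⟩
      rw [fs_glue, sn_glue, uz, ← u2mul,
        show (⟨0, (ψ2 ⟨x, hx⟩).a⟩ : Model e4) * ⟨(ψ2 ⟨x, hx⟩).v, 0⟩ = ψ2 ⟨x, hx⟩ by
          ext1 <;> simp [Model.mul_v, Model.mul_a, cocycle_zero_left]]
      simp [u2]
    rw [hχinj h]; exact fs_glue _ _
  have vec : ∀ v, v = glue (fs v) 0 + glue 0 (sn v) := fun v => by
    rw [← glue_add, add_zero, zero_add, glue_fs_sn]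
  -- images in the first factor
  have him1 : ∀ l : ↥(L1 z R B), ∃ φ, j1 φ = π ⟨l, inC l.2⟩ := by
    intro l
    obtain ⟨hlz, hl⟩ := mem_L1.mp l.2
    set f := π ⟨l, inC l.2⟩ with hf
    have hfix : ∀ w, f.1 (glue 0 w) = glue 0 w := by
      intro w
      obtain ⟨a, ha⟩ := hv ⟨l, inC l.2⟩ ⟨glue 0 w, 0⟩
      rw [show (l : G) * χf ⟨glue 0 w, 0⟩ * (l : G)⁻¹ = χf ⟨glue 0 w, 0⟩ from
        conj_eq_self (hl _ (hq2 w)).symm] at ha
      exact (congrArg Model.v (hχinj ha)).symm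
    have hfst : ∀ u, sn (f.1 (glue u 0)) = 0 := by
      intro u
      obtain ⟨a, ha⟩ := hv ⟨l, inC l.2⟩ ⟨glue u 0, 0⟩
      refine hval1 (x := (l : G) * χf ⟨glue u 0, 0⟩ * (l : G)⁻¹) ?_ (m := ⟨f.1 (glue u 0), a⟩) ha.symm
      obtain ⟨q1, hq, q2, hq', hdec⟩ := H.decomp (H.conj_memQ hlz (H.le1 (hq1 u)))
      have hz2' : ∀ q ∈ Q2 R B, q * q2 = q2 * q := fun q hq0 => by
        have h1 : Commute q (q1 * q2) := by
          rw [← hdec]
          exact ((show Commute q (l : G) from hl q hq0).mul_right (H.comm12 (hq1 u) hq0).symm).mul_right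
            (show Commute q (l : G) from hl q hq0).inv_right
        have h2 : Commute q q1 := (H.comm12 hq hq0).symm
        have h3 := h2.inv_right.mul_right h1
        rwa [inv_mul_cancel_left] at h3
      show (l : G) * χf ⟨glue u 0, 0⟩ * (l : G)⁻¹ ∈ Q1 R B
      rw [hdec]
      rcases H.q2_central hq' hz2' with h | h <;> rw [h]
      · rwa [mul_one]
      · exact mul_mem hq H.z_mem1
    let φ : Coord 2 ≃ₗ[ZMod 2] Coord 2 :=
      LinearEquiv.ofInjectiveEndo
        { toFun := fun u => fs (f.1 (glue u 0))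
          map_add' := fun a b => by rw [← fs_add, ← map_add, ← glue_add, add_zero]
          map_smul' := fun c a => by
            rw [RingHom.id_apply, ← fs_smul, ← map_smul, ← glue_smul, smul_zero] }
        (fun a b h => by
          have h' : f.1 (glue a 0) = f.1 (glue b 0) := by
            rw [← glue_fs_sn (f.1 (glue a 0)), ← glue_fs_sn (f.1 (glue b 0)), hfst, hfst,
              show fs (f.1 (glue a 0)) = fs (f.1 (glue b 0)) from h]
          have := congrArg fs (f.1.injective h')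
          rwa [fs_glue, fs_glue] at this)
    refine ⟨⟨φ, fun u => ?_⟩, Subtype.ext (LinearEquiv.ext fun v => ?_)⟩
    · have h := f.2 (glue u 0)
      rw [sq_split, sq_split (glue u 0), hfst, fs_glue, sn_glue] at h
      exact add_right_cancel h
    · rw [j1_apply]
      show glue (fs (f.1 (glue (fs v) 0))) (sn v) = f.1 v
      conv_rhs => rw [vec v, map_add, hfix, ← glue_fs_sn (f.1 (glue (fs v) 0)), hfst, ← glue_add,
        add_zero, zero_add]
  have him2 : ∀ l : ↥(L2 z R B), ∃ φ, j2 φ = π ⟨l, inC l.2⟩ := by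
    intro l
    obtain ⟨hlz, hl⟩ := mem_L2.mp l.2
    set f := π ⟨l, inC l.2⟩ with hf
    have hfix : ∀ u, f.1 (glue u 0) = glue u 0 := by
      intro u
      obtain ⟨a, ha⟩ := hv ⟨l, inC l.2⟩ ⟨glue u 0, 0⟩
      rw [show (l : G) * χf ⟨glue u 0, 0⟩ * (l : G)⁻¹ = χf ⟨glue u 0, 0⟩ from
        conj_eq_self (hl _ (hq1 u)).symm] at ha
      exact (congrArg Model.v (hχinj ha)).symm
    have hsnd : ∀ w, fs (f.1 (glue 0 w)) = 0 := by
      intro w
      obtain ⟨a, ha⟩ := hv ⟨l, inC l.2⟩ ⟨glue 0 w, 0⟩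
      refine hval2 (x := (l : G) * χf ⟨glue 0 w, 0⟩ * (l : G)⁻¹) (mem_Q2.mpr ⟨H.conj_memQ hlz (H.le2 (hq2 w)), fun q hq => ?_⟩) (m := ⟨f.1 (glue 0 w), a⟩) ha.symm
      exact ((show Commute q (l : G) from hl q hq).mul_right (H.comm12 hq (hq2 w))).mul_right
        (show Commute q (l : G) from hl q hq).inv_right
    let φ : Coord 2 ≃ₗ[ZMod 2] Coord 2 :=
      LinearEquiv.ofInjectiveEndo
        { toFun := fun w => sn (f.1 (glue 0 w))
          map_add' := fun a b => by rw [← sn_add, ← map_add, ← glue_add, add_zero]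
          map_smul' := fun c a => by
            rw [RingHom.id_apply, ← sn_smul, ← map_smul, ← glue_smul, smul_zero] }
        (fun a b h => by
          have h' : f.1 (glue 0 a) = f.1 (glue 0 b) := by
            rw [← glue_fs_sn (f.1 (glue 0 a)), ← glue_fs_sn (f.1 (glue 0 b)), hsnd, hsnd,
              show sn (f.1 (glue 0 a)) = sn (f.1 (glue 0 b)) from h]
          have := congrArg sn (f.1.injective h')
          rwa [sn_glue, sn_glue] at this)
    refine ⟨⟨φ, fun w => ?_⟩, Subtype.ext (LinearEquiv.ext fun v => ?_)⟩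
    · have h := f.2 (glue 0 w)
      rw [sq_split, sq_split (glue 0 w), hsnd, fs_glue, sn_glue] at h
      exact add_left_cancel h
    · rw [j2_apply]
      show glue (fs v) (sn (f.1 (glue 0 (sn v)))) = f.1 v
      conv_rhs => rw [vec v, map_add, hfix, ← glue_fs_sn (f.1 (glue 0 (sn v))), hsnd, ← glue_add,
        add_zero, zero_add]
  -- squares of lifts centralise the other factor
  have sq_fix : ∀ (c : C) (x : G), x * z = z * x →
      ((c : G) * x * (c : G)⁻¹ = x ∨ (c : G) * x * (c : G)⁻¹ = z * x) →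
      x * ((c : G) * c) = (c : G) * c * x := by
    intro c x hx h
    have hcz : (c : G) * z * (c : G)⁻¹ = z := conj_eq_self (hmemC.mp c.2)
    have : (c : G) * c * x * ((c : G) * c)⁻¹ = x := by
      rw [show (c : G) * c * x * ((c : G) * c)⁻¹ = c * (c * x * (c : G)⁻¹) * (c : G)⁻¹ by group]
      rcases h with e | e <;> rw [e]
      · exact e
      · rw [show (c : G) * (z * x) * (c : G)⁻¹ = (c * z * (c : G)⁻¹) * (c * x * (c : G)⁻¹) by group, hcz, e,
          ← mul_assoc, H.st.zz, one_mul]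
    exact (mul_inv_eq_iff_eq_mul.mp this).symm
  refine ⟨H, hkerQ, ?_, ?_, ?_⟩
  · -- transitivity
    obtain ⟨m0, hm0⟩ : ∃ m : Model e8, m.v = dec8 1 := ⟨⟨dec8 1, 0⟩, rfl⟩
    suffices key : ∀ y ∈ R, y * y = 1 → y ≠ 1 → y ≠ z → IsConj y (χf m0) from
      fun x hx h1 h2 h3 y hy h4 h5 h6 => (key x hx h1 h2 h3).trans (key y hy h4 h5 h6).symm
    intro y hy hyy hy1 hyz
    obtain ⟨m, rfl⟩ := hχsurj hy
    have hq : sqForm e8 m.v = 0 := by
      rw [← χmul] at hyy
      have : m * m = 1 := hχinj (hyy.trans (by simp [χf, u1, u2, show (⟨fs 0, 0⟩ : Model e4) = 1 from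
        Model.ext (funext fun i => by fin_cases i <;> rfl) rfl, show (⟨sn 0, 0⟩ : Model e4) = 1 from
        Model.ext (funext fun i => by fin_cases i <;> rfl) rfl, Model.one_v, Model.one_a]))
      rw [← pow_two, Model.sq_mem] at this
      exact congrArg Model.a this
    have hm0' : m.v ≠ 0 := by
      intro h
      rcases samev ⟨0, 0⟩ m h.symm with e | e
      all_goals rw [show χf ⟨0, 0⟩ = 1 by
        have h1 := χmul 1 1
        rw [one_mul] at h1
        exact left_eq_mul.mp h1] at e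
      · exact hy1 e
      · exact hyz (e.trans (mul_one z))
    -- an element carrying the coordinates
    obtain ⟨c, hc⟩ : ∃ c : C, (π c).1 m.v = dec8 1 := by
      by_cases hs : m.v = dec8 1
      · exact ⟨1, by rw [map_one]; exact hs⟩
      obtain ⟨b, hb, hb1, hb2⟩ := exists_step m.v hq hm0' hs
      set v := m.v
      set s := dec8 1
      have hsb : sqForm e8 (s + b) = 0 := by
        rw [sq_add, dec8_one.1, hb, zero_add, show pol s b = pol b s from add_comm _ _, hb1]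
        exact CharTwo.add_self_eq_zero _
      set a := v + (s + b) with ha
      have ha1 : sqForm e8 a = 1 := by rw [ha, sq_add, hq, hsb, hb2, add_zero, zero_add]
      obtain ⟨ra, hra, hra'⟩ := hd.refl a ha1
      obtain ⟨rb, hrb, hrb'⟩ := hd.refl b hb
      have hmem : rb * ra ∈ π.range := by
        rw [hrange, MonoidHom.mem_ker, map_mul, hra, hrb]; rfl
      obtain ⟨c, hc⟩ := hmem
      refine ⟨c, ?_⟩
      rw [hc]
      show rb.1 (ra.1 v) = s
      have hself : ∀ w, pol w w = 0 := fun w => CharTwo.add_self_eq_zero _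
      have hpa : pol a v = 1 := by
        rw [show pol a v = pol v v + pol v (s + b) by
          simp only [pol, ha, cocycle_add_left, cocycle_add_right]; ring, hself, zero_add, hb2]
      rw [hra', hpa, one_smul, ha, ← add_assoc, neg_eq_two, zero_add, hrb',
        show pol b (s + b) = pol b s + pol b b by simp only [pol, cocycle_add_left, cocycle_add_right]; ring,
        hb1, hself, add_zero, one_smul, add_assoc, neg_eq_two, add_zero]
    obtain ⟨a, ha⟩ := hv c m
    rcases samev m0 ⟨(π c).1 m.v, a⟩ (by rw [hm0]; exact hc.symm) with e | e <;> rw [e] at ha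
    · exact isConj_iff.mpr ⟨c, ha⟩
    · obtain ⟨u, -, hu⟩ := H.st.exists_move (χmemR m0)
        (fun h => dec8_one.2 (by
          have h1 := χmul 1 1
          rw [one_mul] at h1
          rw [← hm0, hχinj (h.trans (left_eq_mul.mp h1).symm)]; rfl))
        (fun h => dec8_one.2 (by rw [← hm0, hχinj (h.trans χz.symm)]))
      have i1 : IsConj (χf m) (z * χf m0) := isConj_iff.mpr ⟨c, ha⟩
      have i2 : IsConj (χf m0) (z * χf m0) := isConj_iff.mpr ⟨u, hu⟩
      exact i1.trans i2.symm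
  · -- the first quotient
    choose ρ hρ using him1
    let ρh : ↥(L1 z R B) →* isoGrp e4 := MonoidHom.mk' ρ (fun a b => j1_injective (by
      rw [hρ, map_mul, hρ, hρ, ← map_mul]; rfl))
    have hρmem : ∀ l, ρh l ∈ (d.comp j1).ker := fun l => by
      rw [MonoidHom.mem_ker, MonoidHom.comp_apply, show j1 (ρh l) = _ from hρ l, ← MonoidHom.mem_ker, ← hrange]
      exact ⟨_, rfl⟩
    obtain ⟨α⟩ := alt5_of_sign (d.comp j1) ⟨swap4, hd.odd1⟩
    refine ⟨α.toMonoidHom.comp (ρh.codRestrict _ hρmem), alt5_squares _ (fun a => ?_), fun l => ?_⟩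
    · set φ := α.symm a with hφ
      have hmem : j1 φ.1 ∈ π.range := by rw [hrange]; exact φ.2
      obtain ⟨c, hc⟩ := hmem
      have hl : (c : G) * c ∈ L1 z R B := by
        refine mem_L1.mpr ⟨hmemC.mp (c * c : C).2, fun x hx => sq_fix c x (H.q_z (H.le2 hx)) ?_⟩
        obtain ⟨m, rfl⟩ := hχsurj (H.le2 hx)
        obtain ⟨a', ha'⟩ := hv c m
        rw [ha']
        refine samev m _ ?_
        show m.v = (π c).1 m.v
        rw [hc, j1_apply, hval2 hx rfl, map_zero]
        conv_lhs => rw [← glue_fs_sn m.v, hval2 hx rfl]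
      refine ⟨⟨_, hl⟩, ?_⟩
      have h1 : ρh ⟨_, hl⟩ = φ.1 * φ.1 := j1_injective (by
        rw [show j1 (ρh ⟨_, hl⟩) = _ from hρ _, map_mul, ← hc, ← map_mul]; rfl)
      show α ⟨ρh ⟨_, hl⟩, hρmem _⟩ = a * a
      rw [show (⟨ρh ⟨_, hl⟩, hρmem _⟩ : (d.comp j1).ker) = φ * φ from Subtype.ext h1, map_mul, hφ,
        α.apply_symm_apply]
    · show α ⟨ρh l, hρmem l⟩ = 1 ↔ _
      rw [MulEquiv.map_eq_one_iff, ← hker' ⟨l, inC l.2⟩, ← hρ l]
      exact ⟨fun h => by rw [show ρ l = 1 from congrArg Subtype.val h, map_one],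
        fun h => Subtype.ext (j1_injective (h.trans (map_one j1).symm))⟩
  · choose ρ hρ using him2
    let ρh : ↥(L2 z R B) →* isoGrp e4 := MonoidHom.mk' ρ (fun a b => j2_injective (by
      rw [hρ, map_mul, hρ, hρ, ← map_mul]; rfl))
    have hρmem : ∀ l, ρh l ∈ (d.comp j2).ker := fun l => by
      rw [MonoidHom.mem_ker, MonoidHom.comp_apply, show j2 (ρh l) = _ from hρ l, ← MonoidHom.mem_ker, ← hrange]
      exact ⟨_, rfl⟩
    obtain ⟨α⟩ := alt5_of_sign (d.comp j2) ⟨swap4, hd.odd2⟩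
    refine ⟨α.toMonoidHom.comp (ρh.codRestrict _ hρmem), alt5_squares _ (fun a => ?_), fun l => ?_⟩
    · set φ := α.symm a with hφ
      have hmem : j2 φ.1 ∈ π.range := by rw [hrange]; exact φ.2
      obtain ⟨c, hc⟩ := hmem
      have hl : (c : G) * c ∈ L2 z R B := by
        refine mem_L2.mpr ⟨hmemC.mp (c * c : C).2, fun x hx => sq_fix c x (H.q_z (H.le1 hx)) ?_⟩
        obtain ⟨m, rfl⟩ := hχsurj (H.le1 hx)
        obtain ⟨a', ha'⟩ := hv c m
        rw [ha']
        refine samev m _ ?_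
        show m.v = (π c).1 m.v
        rw [hc, j2_apply, hval1 hx rfl, map_zero]
        conv_lhs => rw [← glue_fs_sn m.v, hval1 hx rfl]
      refine ⟨⟨_, hl⟩, ?_⟩
      have h1 : ρh ⟨_, hl⟩ = φ.1 * φ.1 := j2_injective (by
        rw [show j2 (ρh ⟨_, hl⟩) = _ from hρ _, map_mul, ← hc, ← map_mul]; rfl)
      show α ⟨ρh ⟨_, hl⟩, hρmem _⟩ = a * a
      rw [show (⟨ρh ⟨_, hl⟩, hρmem _⟩ : (d.comp j2).ker) = φ * φ from Subtype.ext h1, map_mul, hφ,
        α.apply_symm_apply]
    · show α ⟨ρh l, hρmem l⟩ = 1 ↔ _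
      rw [MulEquiv.map_eq_one_iff, ← hker' ⟨l, inC l.2⟩, ← hρ l]
      exact ⟨fun h => by rw [show ρ l = 1 from congrArg Subtype.val h, map_one],
        fun h => Subtype.ext (j2_injective (h.trans (map_one j2).symm))⟩

end CfsgLib.ConwayFive
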